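import Cfsg.Agent.Lib.CosetCert.Finish

/-!
A group with the relations of a coset table, acting on the cosets of a proper core-free subgroup containing the
generators of the table's point stabiliser, is the permutation group of the table when the table is primitive.
-/

set_option autoImplicit false
set_option linter.all false

namespace Cfsg.Agent.AmalgamM12

open Cfsg.Agent.CosetCert

theorem faithful {G : Type*} [Group G] {D : Table} (hD : Checked D) {P : Orbits} (hP : Prim D P) (g : ℕ → G)
    (hg : ∀ x, g x * g x = 1) (htail : ∀ x, D.C.K ≤ x → g x = 1) (hW : ∀ w ∈ D.C.W, wprod g w = 1)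
    (hgen : Subgroup.closure (g '' {x | x < D.C.K}) = ⊤) {A : Subgroup G}
    (hA : A = Subgroup.closure (wprod g '' {w | w ∈ D.C.S})) (hne : A ≠ ⊤) (hcore : A.normalCore = ⊥) :
    ∃ φ : G →* Equiv.Perm (Fin D.n), Function.Injective φ ∧ (∀ x, φ (g x) = tau hD x) ∧ A.index = D.n := by
  classical
  let v : ℕ → G × Equiv.Perm (Fin D.n) := fun x => (g x, tau hD x)
  let X : Subgroup (G × Equiv.Perm (Fin D.n)) := Subgroup.closure (v '' {x | x < D.C.K})
  have hv : ∀ x, v x ∈ X := by
    intro x
    rcases lt_or_ge x D.C.K with hx | hx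
    · exact Subgroup.subset_closure ⟨x, hx, rfl⟩
    · have : v x = 1 := by
        show (g x, tau hD x) = 1
        rw [htail x hx, tau, dif_neg (by omega)]
        rfl
      rw [this]; exact one_mem _
  let g' : ℕ → X := fun x => ⟨v x, hv x⟩
  let π : X →* G := (MonoidHom.fst _ _).comp X.subtype
  let ψ : X →* Equiv.Perm (Fin D.n) := (MonoidHom.snd _ _).comp X.subtype
  have hψ : ∀ x, ψ (g' x) = tau hD x := fun _ => rfl
  have hπ : ∀ x, π (g' x) = g x := fun _ => rfl
  have hg' : ∀ x, g' x * g' x = 1 := fun x => Subtype.ext (Prod.ext (hg x) (tau_sq hD x))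
  have hW' : ∀ w ∈ D.C.W, wprod g' w = 1 := fun w hw => Subtype.ext (Prod.ext
    (by
      have h := map_wprod π g' w
      rw [funext hπ, hW w hw] at h
      exact h)
    (by
      have h := map_wprod ψ g' w
      rw [funext hψ, tau_rel hD w hw] at h
      exact h))
  have hgen' : Subgroup.closure (g' '' {x | x < D.C.K}) = ⊤ := by
    apply Subgroup.map_injective X.subtype_injective
    rw [MonoidHom.map_closure, ← MonoidHom.range_eq_map, Subgroup.range_subtype, ← Set.image_comp]
    rfl
  let H : Subgroup X := Subgroup.closure (wprod g' '' {w | w ∈ D.C.S})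
  have hπs : Function.Surjective π := by
    rw [← MonoidHom.range_eq_top, eq_top_iff, ← hgen, Subgroup.closure_le]
    rintro _ ⟨x, -, rfl⟩
    exact ⟨g' x, hπ x⟩
  have hmapH : H.map π = A := by
    rw [hA, MonoidHom.map_closure, ← Set.image_comp]
    congr 1
    refine Set.image_congr' fun w => ?_
    show π (wprod g' w) = wprod g w
    rw [map_wprod, funext hπ]
  have hker : π.ker ≤ H := by
    rcases eq_or_top_of_le hD g' ψ hψ hg' hW' hgen' rfl P hP (le_sup_left : H ≤ H ⊔ π.ker) with h | h
    · exact le_sup_right.trans h.le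
    · refine absurd ?_ hne
      have := congrArg (Subgroup.map π) h
      rwa [Subgroup.map_sup, (Subgroup.map_eq_bot_iff _).2 le_rfl, sup_bot_eq, hmapH,
        Subgroup.map_top_of_surjective π hπs] at this
  obtain ⟨e, he0, he⟩ := exists_equiv hD g' ψ hψ hg' hW' hgen' (H := H) rfl
  have hstab : ∀ d : X, ψ d ⟨0, hD.pos⟩ = ⟨0, hD.pos⟩ → d ∈ H := by
    intro d hd
    have h := he d ⟨0, hD.pos⟩
    rw [hd, he0, MulAction.Quotient.smul_mk, smul_eq_mul, mul_one, QuotientGroup.eq, mul_one] at h
    exact inv_mem_iff.1 h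
  have hkill : π.ker ≤ ψ.ker := by
    intro k hk
    rw [MonoidHom.mem_ker]
    refine Equiv.ext fun c => ?_
    apply e.injective
    rw [← he]
    obtain ⟨a, ha⟩ := QuotientGroup.mk_surjective (e c)
    rw [← ha, MulAction.Quotient.smul_mk, smul_eq_mul, Equiv.Perm.one_apply, ← ha, QuotientGroup.eq]
    have hm : a⁻¹ * k⁻¹ * a ∈ H := hker (by simpa using (inferInstance : π.ker.Normal).conj_mem _ (inv_mem hk) a⁻¹)
    have : (k * a)⁻¹ * a = a⁻¹ * k⁻¹ * a := by group
    rw [this]; exact hm
  let φ : G →* Equiv.Perm (Fin D.n) := π.liftOfSurjective hπs ⟨ψ, hkill⟩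
  have hφ : ∀ d : X, φ (π d) = ψ d := fun d => π.liftOfRightInverse_comp_apply _ (Function.rightInverse_surjInv hπs) ⟨ψ, hkill⟩ d
  refine ⟨φ, ?_, fun x => by rw [← hπ x, hφ, hψ], ?_⟩
  · rw [← MonoidHom.ker_eq_bot_iff, eq_bot_iff, ← hcore]
    refine Subgroup.normal_le_normalCore.2 fun y hy => ?_
    obtain ⟨d, rfl⟩ := hπs y
    rw [MonoidHom.mem_ker, hφ] at hy
    rw [← hmapH]
    exact Subgroup.mem_map_of_mem π (hstab d (by rw [hy]; rfl))
  · rw [← hmapH, Subgroup.index_map_eq _ hπs hker]
    exact index_eq hD g' ψ hψ hg' hW' hgen' rfl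

end Cfsg.Agent.AmalgamM12
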