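import Cfsg.Agent.Lib.AmalgamM12.Setup

/-!
# The generators, their relations, and the centralizer of a four-element pair
-/

set_option autoImplicit false
set_option linter.style.haveILetI false

namespace Cfsg.Agent.AmalgamM12

open Subgroup

variable {G : Type*} [Group G] [Finite G]

/-- Translating a central involution by the module. -/
theorem Center.translate {A Q : Subgroup G} {t u : G} (C : Center A Q t) (S : Side A Q) (hu : u ∈ Q) :
    Center A Q (u * t) where
  mem := mul_mem (S.le hu) C.mem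
  sq := by
    have := C.invert u hu
    rw [cj, C.inv'] at this
    calc u * t * (u * t) = u * (t * u * t) := by group
      _ = 1 := by rw [this, mul_inv_cancel]
  invert v hv := by rw [cj_comp, C.invert v hv]; exact cj_eq_iff.2 (S.comm u hu _ (inv_mem hv))
  central g hg := by
    have e : u * t * g * (u * t)⁻¹ * g⁻¹ = u * (t * g * t⁻¹ * g⁻¹) * cj g u⁻¹ := by rw [cj]; group
    rw [e]
    exact mul_mem (mul_mem hu (C.central g hg)) (S.conj g hg _ (inv_mem hu))

theorem Center.ne_one {A Q : Subgroup G} {t : G} (C : Center A Q t) (S : Side A Q) : t ≠ 1 := by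
  intro e
  have hbot : Q = ⊥ := (Subgroup.eq_bot_iff_forall Q).2 fun v hv => by
    refine C.eq_one_of_mem S hv ?_
    rw [e, one_mul, mul_one]
  have h9 := S.card
  rw [hbot, Subgroup.card_bot] at h9
  norm_num at h9

/-- The fixed point of the involution on the other module. -/
theorem exists_fixed {A B QA QB : Subgroup G} (sA : Side A QA) (sB : Side B QB) {t : G} (C : Center A QA t)
    (htB : t ∈ B) (hBA : QB ≤ A) (hAB : QA ≤ B) (hI : Nat.card (QA ⊓ QB : Subgroup G) = 3) :
    ∃ a ∈ QB, a ∉ QA ∧ t * a = a * t := by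
  obtain ⟨a0, ha0, ha0'⟩ : ∃ a0 ∈ QB, a0 ∉ QA := by
    by_contra h
    push Not at h
    have h' : QA ⊓ QB = QB := inf_eq_right.2 h
    rw [h', sB.card] at hI
    norm_num at hI
  set a := a0 * cj t a0 with ha
  have haQ : a ∈ QB := mul_mem ha0 (sB.conj t htB _ ha0)
  have hafix : cj t a = a := by
    rw [ha, cj_map_mul, ← cj_comp, C.sq, cj_one]
    exact sB.comm _ (sB.conj t htB _ ha0) _ ha0
  by_cases haA : a ∈ QA
  swap
  · exact ⟨a, haQ, haA, cj_eq_iff.1 hafix⟩
  exfalso
  have h1 : cj t a0 = a0⁻¹ := eq_inv_of_mul_eq_one_right (C.eq_one_of_mem sA haA (cj_eq_iff.1 hafix))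
  refine ha0' (sA.self a0 (hBA ha0) fun b hb => ?_)
  set c := a0 * b * a0⁻¹ * b⁻¹ with hc
  have hcA : c ∈ QA := mul_mem (sA.conj a0 (hBA ha0) b hb) (inv_mem hb)
  have hcB : c ∈ QB := by
    rw [show c = a0 * cj b a0⁻¹ by rw [hc, cj]; group]
    exact mul_mem ha0 (sB.conj b (hAB hb) _ (inv_mem ha0))
  have hcc : Commute c (b * a0) :=
    (show Commute c b from sA.comm c hcA b hb).mul_right (sB.comm c hcB a0 ha0)
  have h2 : cj t c = c := by
    rw [hc, cj_map_mul, cj_map_mul, cj_map_mul, cj_map_inv, cj_map_inv, h1, C.invert b hb, inv_inv, inv_inv]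
    calc a0⁻¹ * b⁻¹ * a0 * b = (b * a0)⁻¹ * c * (b * a0) := by rw [hc]; group
      _ = c := by rw [mul_assoc, hcc.eq, inv_mul_cancel_left]
      _ = _ := hc
  have h3 := C.eq_one_of_mem sA hcA (cj_eq_iff.1 h2)
  rw [hc, mul_inv_eq_one, mul_inv_eq_iff_eq_mul] at h3
  exact h3

theorem Config.exists_gens {A B QA QB : Subgroup G} (K : Config A B QA QB) (hgen : A ⊔ B = ⊤) :
    ∃ a b p q r s : G, Rels a b p q r s ∧ sideA a b p q r = A ∧ closure {a, b, p, q, r, s} = ⊤ ∧
      p ≠ 1 ∧ a ≠ 1 ∧ b ∈ QA ∧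
      ∀ g : G, g * a = a * g → g * p = p * g → ∃ i j : ℕ, g = a ^ i * p ^ j := by
  have sA := K.sA
  have sB := K.sB
  obtain ⟨p, CA⟩ := sA.center'
  obtain ⟨q0, CB0⟩ := sB.center'
  have hnorm : ∀ {T Q : Subgroup G} {t : G}, Side T Q → Center T Q t → QA ⊓ QB ≤ Q → t ∈ A ⊓ B := by
    intro T Q t hS C hle
    refine K.norm (mem_normalizer_of_conj (fun v hv => ?_) fun v hv => ?_)
    · rw [C.invert v (hle hv)]; exact inv_mem hv
    · rw [C.inv', C.invert v (hle hv)]; exact inv_mem hv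
  have hpB : p ∈ B := (hnorm sA CA inf_le_left).2
  -- an involution of the second side commuting with `p`
  set v := q0 * p * q0⁻¹ * p⁻¹ with hv
  have hvB : v ∈ QB := CB0.central p hpB
  have hpv : cj p v = v⁻¹ := by
    rw [hv, cj, CA.inv', CB0.inv', _root_.mul_inv_rev, _root_.mul_inv_rev, _root_.mul_inv_rev, CA.inv', CB0.inv']
    simp only [mul_assoc, CA.sq, mul_one]
  set q := v * q0 with hq
  have CB : Center B QB q := CB0.translate sB hvB
  have hpq : p * q = q * p := by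
    have e : p * q0 = v⁻¹ * (q0 * p) := by
      rw [hv, _root_.mul_inv_rev, _root_.mul_inv_rev, _root_.mul_inv_rev, inv_inv, inv_inv]; group
    calc p * q = cj p v * (p * q0) := by rw [hq, cj]; group
      _ = v⁻¹ * v⁻¹ * (q0 * p) := by rw [hpv, e, ← mul_assoc]
      _ = q * p := by
        rw [← _root_.mul_inv_rev, ← sB.inv_eq hvB, inv_inv, hq, mul_assoc v q0 p]
  have hqA : q ∈ A := (hnorm sB CB inf_le_right).1
  obtain ⟨a, haQ, haA, hpa⟩ := exists_fixed sA sB CA hpB K.leB K.leA K.cardZ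
  obtain ⟨b, hbQ, hbB, hqb⟩ := exists_fixed sB sA CB hqA K.leA K.leB (by rw [inf_comm]; exact K.cardZ)
  set z := a * b * a⁻¹ * b⁻¹ with hz
  have hzA : z ∈ QA := mul_mem (sA.conj a (K.leB haQ) b hbQ) (inv_mem hbQ)
  have hzB : z ∈ QB := by
    rw [show z = a * cj b a⁻¹ by rw [hz, cj]; group]
    exact mul_mem haQ (sB.conj b (K.leA hbQ) _ (inv_mem haQ))
  have hz1 : z ≠ 1 := by
    intro e
    obtain ⟨⟨z0, hz0⟩, hz01⟩ : ∃ z0 : (QA ⊓ QB : Subgroup G), z0 ≠ 1 := by
      haveI : Nontrivial (QA ⊓ QB : Subgroup G) := Finite.one_lt_card_iff_nontrivial.1 (by rw [K.cardZ]; norm_num)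
      exact exists_ne 1
    have Bb : Basis QA z0 b := ⟨hz0.1, hbQ, fun e => hz01 (Subtype.ext e),
      fun hb => hbB (by obtain ⟨k, hk⟩ := hb; rw [← hk]; exact QB.zpow_mem hz0.2 k)⟩
    refine haA (sA.mem_of_fix Bb (K.leB haQ) (cj_eq_iff.2 (sB.comm a haQ z0 hz0.2)) ?_)
    rw [hz, mul_inv_eq_one] at e
    exact e
  have BA : Basis QA z b := ⟨hzA, hbQ, hz1, fun hb => hbB (by obtain ⟨k, hk⟩ := hb; rw [← hk]; exact QB.zpow_mem hzB k)⟩
  have BB : Basis QB z⁻¹ a := ⟨inv_mem hzB, haQ, inv_ne_one.2 hz1, fun ha => haA (by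
    obtain ⟨k, hk⟩ := ha; rw [← hk]; exact QA.zpow_mem (inv_mem hzA) k)⟩
  have az : cj a z = z := cj_eq_iff.2 (sB.comm a haQ z hzB)
  have bz : cj b z = z := cj_eq_iff.2 (sA.comm b hbQ z hzA)
  have ab : cj a b = z * b := by rw [cj, hz]; group
  have ba : cj b a = z⁻¹ * a := by rw [cj, hz]; group
  have qz : cj q z = z⁻¹ := CB.invert z hzB
  have pz : cj p z = z⁻¹ := CA.invert z hzA
  have qb : cj q b = b := cj_eq_iff.2 hqb
  have pa : cj p a = a := cj_eq_iff.2 hpa
  obtain ⟨r, hr, hpr, rz, rb, rr, rqr, arar, hclA⟩ :=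
    CA.weyl sA BA (K.leB haQ) hqA hpa hpq az ab qz qb
  obtain ⟨s, hs, hqs, sz, sa, ss, sps, bsbs, hclB⟩ :=
    CB.weyl sB BB (K.leA hbQ) hpB hqb hpq.symm (by rw [cj_map_inv, bz]) ba (by rw [cj_map_inv, pz]) pa
  have hp := CA.ne_one sA
  have hcube : ∀ {T Q : Subgroup G} {u : G}, Side T Q → u ∈ Q → u * u * u = 1 := fun hS hu => hS.cube _ hu
  have pb : cj p b = b⁻¹ := CA.invert b hbQ
  have qa : cj q a = a⁻¹ := CB.invert a haQ
  have hR : Rels a b p q r s :=
    { pp := CA.sq
      qq := CB.sq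
      pq := by rw [mul_assoc (p * q), hpq]; calc q * p * (q * p) = q * (p * q) * p := by group
                  _ = _ := by rw [hpq]; simp only [mul_assoc, CA.sq, mul_one, CB.sq]
      a3 := sB.cube a haQ
      b3 := sA.cube b hbQ
      pa := by rw [hpa, mul_assoc a, CA.sq, mul_one, mul_inv_cancel]
      pb := by
        have := pb
        rw [cj, CA.inv'] at this
        rw [this, inv_mul_cancel]
      qa := by
        have := qa
        rw [cj, CB.inv'] at this
        rw [this, inv_mul_cancel]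
      qb := by rw [hqb, mul_assoc b, CB.sq, mul_one, mul_inv_cancel]
      za := sB.comm _ hzB _ haQ
      zb := sA.comm _ hzA _ hbQ
      rr := rr
      rq := rqr
      rb := rb
      ar := arar
      ss := ss
      sp := sps
      sa := by rw [← cj, sa, hz]; group
      bs := bsbs }
  refine ⟨a, b, p, q, r, s, hR, hclA, ?_, hp, BB.b1, hbQ, ?_⟩
  · rw [eq_top_iff, ← hgen, sup_le_iff]
    constructor
    · rw [← hclA]; exact closure_mono (by intro x; simp only [Set.mem_insert_iff, Set.mem_singleton_iff]; tauto)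
    · rw [← hclB]; exact closure_mono (by intro x; simp only [Set.mem_insert_iff, Set.mem_singleton_iff]; tauto)
  -- the centralizer of `a` and `p`
  have hsz : cj s z = a := by rw [← inv_inj, ← cj_map_inv, sz]
  have hsq : cj s q = q := cj_eq_iff.2 hqs.symm
  have hspq : cj s (p * q) = p := by
    rw [cj_map_mul, hsq, show cj s p = q * p from sps, mul_assoc, hpq, ← mul_assoc, CB.sq, one_mul]
  have key : ∀ g : G, g * z = z * g → g * (p * q) = p * q * g → ∃ i j : ℕ, g = z ^ i * (p * q) ^ j := by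
    intro g hgz hgpq
    have hI : QA ⊓ QB = zpowers z := (eq_of_le_of_card_ge (by rw [zpowers_le]; exact ⟨hzA, hzB⟩)
      (by rw [K.cardZ, Nat.card_zpowers, sA.order_three hzA hz1])).symm
    have hgA : g ∈ A := by
      refine (K.norm (mem_normalizer_of_conj ?_ ?_)).1 <;>
        rintro u hu <;> rw [hI] at hu ⊢ <;> obtain ⟨k, rfl⟩ := hu <;>
        refine ⟨k, ?_⟩
      · exact (cj_eq_iff.2 (Commute.zpow_right (show Commute g z from hgz) k).eq).symm
      · exact (cj_eq_iff.2 ((Commute.zpow_right (show Commute g z from hgz) k).inv_left).eq).symm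
    have hpqA : p * q ∈ A := mul_mem CA.mem hqA
    have pqb : cj (p * q) b = b⁻¹ := by rw [cj_comp, qb, pb]
    have pqz : cj (p * q) z = z := by rw [cj_comp, qz, cj_map_inv, pz, inv_inv]
    obtain ⟨w, hw, hwc⟩ := CA.exists_comm sA hgA
    have hppq : Commute p (p * q) := (Commute.refl p).mul_right hpq
    have hgg : cj (p * q) g = g := cj_eq_iff.2 hgpq.symm
    have hwfix : cj (p * q) w = w := by
      have h1 : Commute p (cj (p * q) (w * g)) :=
        (hppq.mul_right (show Commute p (w * g) from hwc)).mul_right hppq.inv_right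
      rw [cj_map_mul, hgg] at h1
      have h2 : Commute p (cj (p * q) w * w⁻¹) := by
        have := h1.mul_right (show Commute p (w * g) from hwc).inv_right
        rwa [show cj (p * q) w * g * (w * g)⁻¹ = cj (p * q) w * w⁻¹ by group] at this
      exact mul_inv_eq_one.1 (CA.eq_one_of_mem sA (mul_mem (sA.conj _ hpqA _ hw) (inv_mem hw)) h2.eq)
    have hsplit : ∀ u ∈ QA, ∃ i : ℕ, ∃ e : G, (e = 1 ∨ e = b ∨ e = b⁻¹) ∧ u = z ^ i * e ∧
        cj (p * q) u = z ^ i * e⁻¹ := by
      intro u hu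
      obtain ⟨i, j, rfl⟩ := sA.mem_cases BA hu
      refine ⟨i, b ^ (j : ℕ), ?_, rfl, by rw [cj_map_mul, cj_map_pow, cj_map_pow, pqz, pqb, inv_pow]⟩
      fin_cases j
      · exact Or.inl (pow_zero b)
      · exact Or.inr (Or.inl (pow_one b))
      · exact Or.inr (Or.inr (by show b ^ 2 = b⁻¹; rw [sA.inv_eq hbQ, pow_two]))
    have hsq1 : ∀ u ∈ QA, u⁻¹ = u → u = 1 := fun u hu e => by
      have := sA.cube u hu
      rwa [show u * u = 1 by nth_rewrite 1 [← e]; exact inv_mul_cancel u, one_mul] at this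
    obtain ⟨i, e, he, hwe, hwe'⟩ := hsplit w hw
    have heQ : e ∈ QA := by rcases he with rfl | rfl | rfl; exacts [one_mem _, hbQ, inv_mem hbQ]
    have he1 : e = 1 := hsq1 e heQ (mul_left_cancel ((hwe'.symm.trans hwfix).trans hwe))
    rw [he1, mul_one] at hwe
    -- the part in the complement
    have hcA : w * g ∈ A := mul_mem (sA.le hw) hgA
    have cz : cj (w * g) z = z := by rw [cj_comp, cj_eq_iff.2 hgz]; exact cj_eq_iff.2 (sA.comm w hw z hzA)
    have hcpq : cj (p * q) (w * g) = w * g := by rw [cj_map_mul, hwfix, hgg]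
    obtain ⟨k, e', he', hce, hce'⟩ := hsplit _ (sA.conj _ hcA b hbQ)
    have he'Q : e' ∈ QA := by rcases he' with rfl | rfl | rfl; exacts [one_mem _, hbQ, inv_mem hbQ]
    have hinv : cj (p * q) (cj (w * g) b) = (cj (w * g) b)⁻¹ := by
      rw [← cj_comp, cj_eq_iff.1 hcpq, cj_comp, pqb, cj_map_inv]
    have hzk : z ^ k = 1 := by
      refine hsq1 _ (pow_mem hzA k) (mul_right_cancel (b := e'⁻¹) ?_)
      calc (z ^ k)⁻¹ * e'⁻¹ = e'⁻¹ * (z ^ k)⁻¹ := sA.comm _ (inv_mem (pow_mem hzA k)) _ (inv_mem he'Q)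
        _ = (z ^ k * e')⁻¹ := (_root_.mul_inv_rev _ _).symm
        _ = z ^ k * e'⁻¹ := by rw [← hce, ← hinv, hce']
    rw [hzk, one_mul] at hce
    rcases he' with rfl | rfl | rfl
    · exact absurd (by rw [← cj_back hce, cj_map_one]) BA.b1
    · have h1 := CA.ext sA BA hcA (one_mem A) hwc (by rw [mul_one, one_mul]) (by rw [cj_one, cz]) (by rw [cj_one, hce])
      exact ⟨2 * i, 0, by rw [eq_inv_of_mul_eq_one_right h1, pow_zero, mul_one, sA.inv_eq hw, hwe, ← pow_add, two_mul]⟩
    · have h1 := CA.ext sA BA hcA hpqA hwc hppq.eq (by rw [cz, pqz]) (by rw [hce, pqb])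
      exact ⟨2 * i, 1, by rw [← h1, pow_one, two_mul, pow_add, ← hwe, ← sA.inv_eq hw, inv_mul_cancel_left]⟩
  intro g hga hgp
  have hback : ∀ u v : G, cj s u = v → g * v = v * g → cj s⁻¹ g * u = u * cj s⁻¹ g := by
    intro u v huv hv
    rw [← cj_back huv, ← cj_map_mul, ← cj_map_mul, hv]
  obtain ⟨i, j, e⟩ := key _ (hback z a hsz hga) (hback (p * q) p hspq hgp)
  refine ⟨i, j, ?_⟩
  calc g = cj s (cj s⁻¹ g) := by rw [← cj_comp, mul_inv_cancel, cj_one]
    _ = a ^ i * p ^ j := by rw [e, cj_map_mul, cj_map_pow, cj_map_pow, hsz, hspq]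

/-- The first side contains no nontrivial normal subgroup. -/
theorem Config.normalCore_eq_bot {A B QA QB : Subgroup G} (K : Config A B QA QB) {a b p q r s : G}
    (R : Rels a b p q r s) (hb : b ∈ QA) (hgen : closure {a, b, p, q, r, s} = ⊤) :
    A.normalCore = ⊥ := by
  have sA := K.sA
  set N := A.normalCore
  by_cases h : N ⊓ QA = ⊥
  · refine (eq_bot_iff).2 fun n hn => ?_
    have hnA : n ∈ A := A.normalCore_le hn
    have hnQ : n ∈ QA := by
      refine sA.self n hnA fun v hv => cj_eq_iff.1 ?_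
      have h1 : cj n v * v⁻¹ ∈ N ⊓ QA := ⟨by
          rw [show cj n v * v⁻¹ = n * (v * n⁻¹ * v⁻¹) by rw [cj]; group]
          exact N.mul_mem hn (A.normalCore_normal.conj_mem _ (N.inv_mem hn) v),
        QA.mul_mem (sA.conj n hnA v hv) (QA.inv_mem hv)⟩
      rw [h, mem_bot] at h1
      exact mul_inv_eq_one.1 h1
    rw [← h]; exact ⟨hn, hnQ⟩
  exfalso
  obtain ⟨⟨w, hw⟩, hw1⟩ := (Subgroup.ne_bot_iff_exists_ne_one).1 h
  have hw1' : w ≠ 1 := fun e => hw1 (Subtype.ext e)
  obtain ⟨w', Bw⟩ := sA.exists_basis hw.2 hw1'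
  have hQN : QA ≤ N := fun u hu => by
    by_cases hu1 : u = 1
    · rw [hu1]; exact one_mem _
    obtain ⟨u', Bu⟩ := sA.exists_basis hu hu1
    obtain ⟨g, -, e, -⟩ := sA.pair Bw Bu
    rw [← e]; exact A.normalCore_normal.conj_mem _ hw.1 g
  haveI : N.Normal := A.normalCore_normal
  let π : G →* G ⧸ N := QuotientGroup.mk' N
  have hπ : ∀ {u : G}, π u = 1 ↔ u ∈ N := QuotientGroup.eq_one_iff _
  have eb : π b = 1 := hπ.2 (hQN hb)
  have ea : π a = 1 := by
    have h1 := congrArg π R.sa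
    simp only [map_mul, map_inv, eb, one_mul, mul_one, inv_one, mul_inv_cancel] at h1
    exact conj_eq_one_iff.1 h1
  have er : π r = 1 := by
    have h3 := congrArg π R.ar
    simp only [map_mul, map_one, ea, one_mul, mul_one] at h3
    have h4 : π r * π r * (π r * π r) = 1 := by rw [← map_mul, R.rr, ← map_mul, R.pp, map_one]
    rw [← mul_assoc, h3, one_mul] at h4
    exact h4
  have ep : π p = 1 := by rw [← R.rr, map_mul, er, one_mul]
  have eq' : π q = 1 := by
    have h1 := congrArg π R.sp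
    simpa only [map_mul, map_inv, ep, mul_one, mul_inv_cancel] using h1.symm
  have es : π s = 1 := by
    have h3 := congrArg π R.bs
    simp only [map_mul, map_one, eb, one_mul, mul_one] at h3
    have h4 : π s * π s * (π s * π s) = 1 := by rw [← map_mul, R.ss, ← map_mul, R.qq, map_one]
    rw [← mul_assoc, h3, one_mul] at h4
    exact h4
  have htop : A = ⊤ := top_le_iff.1 (hgen ▸ (closure_le A).2 (by
    rintro _ (rfl | rfl | rfl | rfl | rfl | rfl) <;> refine A.normalCore_le (hπ.1 ?_) <;> assumption))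
  exact K.ne (htop ▸ le_top)

end Cfsg.Agent.AmalgamM12
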