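import Cfsg.Agent.Lib.AmalgamM12.LinearData

/-!
# Coset certificate of Linear: a part of the check
-/

set_option autoImplicit false
set_option linter.all false

namespace Cfsg.Agent.AmalgamM12.Linear

open Cfsg.Agent.CosetCert

theorem steps10 : rangeOK cert 10000 1000 = true := by decide +kernel

theorem steps11 : rangeOK cert 11000 1000 = true := by decide +kernel

theorem steps12 : rangeOK cert 12000 1000 = true := by decide +kernel

theorem steps13 : rangeOK cert 13000 1000 = true := by decide +kernel

theorem steps14 : rangeOK cert 14000 1000 = true := by decide +kernel

theorem steps15 : rangeOK cert 15000 1000 = true := by decide +kernel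

theorem steps16 : rangeOK cert 16000 1000 = true := by decide +kernel

theorem steps17 : rangeOK cert 17000 1000 = true := by decide +kernel

theorem steps18 : rangeOK cert 18000 1000 = true := by decide +kernel

theorem steps19 : rangeOK cert 19000 1000 = true := by decide +kernel

end Cfsg.Agent.AmalgamM12.Linear
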