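import Cfsg.Agent.Lib.AmalgamM12.LinearData

/-!
# Coset certificate of Linear: a part of the check
-/

set_option autoImplicit false
set_option linter.all false

namespace Cfsg.Agent.AmalgamM12.Linear

open Cfsg.Agent.CosetCert

theorem steps20 : rangeOK cert 20000 1000 = true := by decide +kernel

theorem steps21 : rangeOK cert 21000 1000 = true := by decide +kernel

theorem steps22 : rangeOK cert 22000 1000 = true := by decide +kernel

theorem steps23 : rangeOK cert 23000 1000 = true := by decide +kernel

theorem steps24 : rangeOK cert 24000 1000 = true := by decide +kernel

theorem steps25 : rangeOK cert 25000 1000 = true := by decide +kernel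

theorem steps26 : rangeOK cert 26000 1000 = true := by decide +kernel

theorem steps27 : rangeOK cert 27000 1000 = true := by decide +kernel

theorem steps28 : rangeOK cert 28000 1000 = true := by decide +kernel

theorem steps29 : rangeOK cert 29000 1000 = true := by decide +kernel

end Cfsg.Agent.AmalgamM12.Linear
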