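import Cfsg.Agent.Lib.AmalgamM12.LinearData

/-!
# Coset certificate of Linear: a part of the check
-/

set_option autoImplicit false
set_option linter.all false

namespace Cfsg.Agent.AmalgamM12.Linear

open Cfsg.Agent.CosetCert

theorem steps30 : rangeOK cert 30000 1000 = true := by decide +kernel

theorem steps31 : rangeOK cert 31000 1000 = true := by decide +kernel

theorem steps32 : rangeOK cert 32000 387 = true := by decide +kernel

end Cfsg.Agent.AmalgamM12.Linear
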