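import Cfsg.Agent.Lib.AmalgamM12.Rels
import Cfsg.Agent.Lib.AmalgamM12.Faithful
import Cfsg.Agent.Lib.AmalgamM12.MathieuCheck
import Cfsg.Agent.Lib.AmalgamM12.LinearCheck
import Cfsg.Agent.Lib.M12Order.Mathieu
import Cfsg.Agent.Lib.SmallSimple.Order5616.Main

/-!
The relations of the amalgam and one twist relation determine `M₁₂` or `PSL(3, 3)`.
-/

set_option autoImplicit false

namespace Cfsg.Agent.AmalgamM12

open Cfsg.Agent.CosetCert

universe u

variable {G : Type u} [Group G] {a b p q r s : G}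

/-- Six involutions. -/
def gens (a b p q r s : G) : ℕ → G := fun x => [p, q, q * a, p * b, r * q, s * p].getD x 1

/-- The symbols `a a⁻¹ b b⁻¹ r r⁻¹ s s⁻¹ p q`. -/
def val (a b p q r s : G) : ℕ → G := fun x => [a, a⁻¹, b, b⁻¹, r, r⁻¹, s, s⁻¹, p, q].getD x 1

/-- A symbol as a word in the involutions. -/
def tr (x : ℕ) : List ℕ :=
  [[2, 1], [1, 2], [3, 0], [0, 3], [1, 4], [4, 1], [0, 5], [5, 0], [0], [1]].getD x []

/-- A product of symbols as a word, first letter acting first. -/
def wordOf : List ℕ → List ℕ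
  | [] => []
  | x :: l => wordOf l ++ tr x

/-- The relators in symbols. -/
def symRels : List (List ℕ) :=
  [[8, 8], [9, 9], [8, 9, 8, 9], [0, 0, 0], [2, 2, 2], [8, 0, 8, 1], [8, 2, 8, 2], [9, 0, 9, 0], [9, 2, 9, 3],
    [0, 2, 1, 3, 0, 2, 0, 3, 1, 1], [0, 2, 1, 3, 2, 2, 0, 3, 1, 3], [4, 4, 8], [4, 9, 5, 9, 8],
    [4, 2, 5, 2, 0, 3, 1], [0, 4, 0, 4, 0, 4], [6, 6, 9], [6, 8, 7, 8, 9], [6, 0, 7, 0, 2, 1, 3],
    [2, 6, 2, 6, 2, 6], [4, 0, 2, 1, 3, 5, 2], [6, 0, 2, 1, 3, 7, 1]]

/-- The twist relator in symbols. -/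
def symTw : List ℕ :=
  [4, 6, 4, 6, 5, 7, 0] ++ [4, 6, 4, 6, 5, 7, 0] ++ [4, 6, 4, 6, 5, 7, 0]

theorem words_mathieu : Mathieu.words =
    (List.range 6).map (fun i => [i, i]) ++ (symRels ++ [symTw]).map wordOf := by decide +kernel

theorem words_linear : Linear.words =
    (List.range 6).map (fun i => [i, i]) ++ (symRels ++ [symTw ++ [8]]).map wordOf := by decide +kernel

theorem gens_invol (R : Rels a b p q r s) (x : ℕ) : gens a b p q r s x * gens a b p q r s x = 1 := by
  match x with
  | 0 => exact R.pp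
  | 1 => exact R.qq
  | 2 =>
    show q * a * (q * a) = 1
    simpa [mul_assoc] using R.qa
  | 3 =>
    show p * b * (p * b) = 1
    simpa [mul_assoc] using R.pb
  | 4 =>
    show r * q * (r * q) = 1
    calc r * q * (r * q) = (r * q * r⁻¹) * (r * r) * q := by group
      _ = p * q * p * q := by rw [R.rq, R.rr]
      _ = 1 := R.pq
  | 5 =>
    show s * p * (s * p) = 1
    calc s * p * (s * p) = (s * p * s⁻¹) * (s * s) * p := by group
      _ = q * p * q * p := by rw [R.sp, R.ss]
      _ = p * (p * q * p * q) * p := by simp only [← mul_assoc, R.pp, one_mul]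
      _ = 1 := by rw [R.pq, mul_one, R.pp]
  | x + 6 =>
    show (1 : G) * 1 = 1
    exact one_mul 1

theorem wprod_tr (R : Rels a b p q r s) (x : ℕ) : wprod (gens a b p q r s) (tr x) = val a b p q r s x := by
  have hp : p⁻¹ = p := inv_eq_of_mul_eq_one_right R.pp
  have hq : q⁻¹ = q := inv_eq_of_mul_eq_one_right R.qq
  have h2 : (q * a)⁻¹ = q * a := inv_eq_of_mul_eq_one_right (gens_invol R 2)
  have h4 : (r * q)⁻¹ = r * q := inv_eq_of_mul_eq_one_right (gens_invol R 4)
  have h5 : (s * p)⁻¹ = s * p := inv_eq_of_mul_eq_one_right (gens_invol R 5)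
  have h3 : (p * b)⁻¹ = p * b := inv_eq_of_mul_eq_one_right (gens_invol R 3)
  match x with
  | 0 =>
    show 1 * q * (q * a) = a
    rw [one_mul, ← mul_assoc, R.qq, one_mul]
  | 1 =>
    show 1 * (q * a) * q = a⁻¹
    rw [one_mul, ← h2, mul_inv_rev, hq, mul_assoc, R.qq, mul_one]
  | 2 =>
    show 1 * p * (p * b) = b
    rw [one_mul, ← mul_assoc, R.pp, one_mul]
  | 3 =>
    show 1 * (p * b) * p = b⁻¹
    rw [one_mul, ← h3, mul_inv_rev, hp, mul_assoc, R.pp, mul_one]
  | 4 =>
    show 1 * (r * q) * q = r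
    rw [one_mul, mul_assoc, R.qq, mul_one]
  | 5 =>
    show 1 * q * (r * q) = r⁻¹
    rw [one_mul, ← h4, mul_inv_rev, hq,
      ← mul_assoc, R.qq, one_mul]
  | 6 =>
    show 1 * (s * p) * p = s
    rw [one_mul, mul_assoc, R.pp, mul_one]
  | 7 =>
    show 1 * p * (s * p) = s⁻¹
    rw [one_mul, ← h5, mul_inv_rev, hp,
      ← mul_assoc, R.pp, one_mul]
  | 8 => exact one_mul p
  | 9 => exact one_mul q
  | x + 10 => rfl

theorem wprod_append {H : Type u} [Group H] (g : ℕ → H) :
    ∀ u v : List ℕ, wprod g (u ++ v) = wprod g v * wprod g u :=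
  wprod_append' g

theorem wprod_wordOf (R : Rels a b p q r s) :
    ∀ l : List ℕ, wprod (gens a b p q r s) (wordOf l) = (l.map (val a b p q r s)).prod
  | [] => rfl
  | x :: l => by
    rw [wordOf, wprod_append, wprod_wordOf R l, wprod_tr R x, List.map_cons, List.prod_cons]

theorem sym_hold (R : Rels a b p q r s) : ∀ l ∈ symRels, (l.map (val a b p q r s)).prod = 1 := by
  have hp : p⁻¹ = p := inv_eq_of_mul_eq_one_right R.pp
  have hq : q⁻¹ = q := inv_eq_of_mul_eq_one_right R.qq
  have hpbp : p * b * p = b⁻¹ := eq_inv_of_mul_eq_one_left R.pb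
  have hqaq : q * a * q = a⁻¹ := eq_inv_of_mul_eq_one_left R.qa
  have hrz : r * (a * b * a⁻¹ * b⁻¹) * r⁻¹ = b⁻¹ := by
    rw [← R.rb, show r * (r * b * r⁻¹) * r⁻¹ = r * r * b * (r * r)⁻¹ by group, R.rr, hp, hpbp]
  have hsz : s * (a * b * a⁻¹ * b⁻¹) * s⁻¹ = a := by
    rw [show a * b * a⁻¹ * b⁻¹ = (b * a * b⁻¹ * a⁻¹)⁻¹ by group, ← R.sa,
      show s * (s * a * s⁻¹)⁻¹ * s⁻¹ = (s * s * a * (s * s)⁻¹)⁻¹ by simp [mul_assoc], R.ss, hq, hqaq, inv_inv]
  intro l hl
  simp only [symRels, List.mem_cons, List.not_mem_nil, or_false] at hl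
  rcases hl with rfl | rfl | rfl | rfl | rfl | rfl | rfl | rfl | rfl | rfl | rfl | rfl | rfl | rfl | rfl | rfl |
    rfl | rfl | rfl | rfl | rfl <;> simp only [List.map_cons, List.map_nil, List.prod_cons, List.prod_nil]
  · simpa [val, mul_assoc] using R.pp
  · simpa [val, mul_assoc] using R.qq
  · simpa [val, mul_assoc] using R.pq
  · simpa [val, mul_assoc] using R.a3
  · simpa [val, mul_assoc] using R.b3
  · simpa [val, mul_assoc] using R.pa
  · simpa [val, mul_assoc] using R.pb
  · simpa [val, mul_assoc] using R.qa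
  · simpa [val, mul_assoc] using R.qb
  · simpa [val, mul_assoc] using mul_inv_eq_one.2 R.za
  · simpa [val, mul_assoc] using mul_inv_eq_one.2 R.zb
  · simpa [val, mul_assoc, hp] using mul_inv_eq_one.2 R.rr
  · simpa [val, mul_assoc, hp, hq] using mul_inv_eq_one.2 R.rq
  · simpa [val, mul_assoc] using mul_inv_eq_one.2 R.rb
  · simpa [val, mul_assoc] using R.ar
  · simpa [val, mul_assoc, hq] using mul_inv_eq_one.2 R.ss
  · simpa [val, mul_assoc, hp, hq] using mul_inv_eq_one.2 R.sp
  · simpa [val, mul_assoc] using mul_inv_eq_one.2 R.sa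
  · simpa [val, mul_assoc] using R.bs
  · simpa [val, mul_assoc] using mul_inv_eq_one.2 hrz
  · simpa [val, mul_assoc] using mul_inv_eq_one.2 hsz

theorem closure_gens (hgen : Subgroup.closure ({a, b, p, q, r, s} : Set G) = ⊤) :
    Subgroup.closure (gens a b p q r s '' {x | x < 6}) = ⊤ := by
  rw [eq_top_iff, ← hgen, Subgroup.closure_le]
  have h : ∀ x < 6, gens a b p q r s x ∈ Subgroup.closure (gens a b p q r s '' {x | x < 6}) :=
    fun x hx => Subgroup.subset_closure ⟨x, hx, rfl⟩
  have hp := h 0 (by omega)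
  have hq := h 1 (by omega)
  rintro y (rfl | rfl | rfl | rfl | rfl | rfl)
  · exact (Subgroup.mul_mem_cancel_left _ hq).1 (h 2 (by omega))
  · exact (Subgroup.mul_mem_cancel_left _ hp).1 (h 3 (by omega))
  · exact hp
  · exact hq
  · exact (Subgroup.mul_mem_cancel_right _ hq).1 (h 4 (by omega))
  · exact (Subgroup.mul_mem_cancel_right _ hp).1 (h 5 (by omega))

theorem sideA_eq :
    sideA a b p q r = Subgroup.closure (wprod (gens a b p q r s) '' {w | w ∈ [[0], [1], [2], [3], [4]]}) := by
  apply le_antisymm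
  · rw [sideA, Subgroup.closure_le]
    have h : ∀ x < 5, gens a b p q r s x ∈
        Subgroup.closure (wprod (gens a b p q r s) '' {w | w ∈ [[0], [1], [2], [3], [4]]}) := fun x hx =>
      Subgroup.subset_closure ⟨[x], by interval_cases x <;> simp, one_mul _⟩
    have hp := h 0 (by omega)
    have hq := h 1 (by omega)
    rintro y (rfl | rfl | rfl | rfl | rfl)
    · exact (Subgroup.mul_mem_cancel_left _ hq).1 (h 2 (by omega))
    · exact (Subgroup.mul_mem_cancel_left _ hp).1 (h 3 (by omega))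
    · exact hp
    · exact hq
    · exact (Subgroup.mul_mem_cancel_right _ hq).1 (h 4 (by omega))
  · rw [Subgroup.closure_le]
    have ha : a ∈ sideA a b p q r := Subgroup.subset_closure (by simp)
    have hb : b ∈ sideA a b p q r := Subgroup.subset_closure (by simp)
    have hp : p ∈ sideA a b p q r := Subgroup.subset_closure (by simp)
    have hq : q ∈ sideA a b p q r := Subgroup.subset_closure (by simp)
    have hr : r ∈ sideA a b p q r := Subgroup.subset_closure (by simp)
    rintro _ ⟨w, hw, rfl⟩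
    simp only [Set.mem_setOf_eq, List.mem_cons, List.not_mem_nil, or_false] at hw
    rcases hw with rfl | rfl | rfl | rfl | rfl <;>
      simp only [wprod, one_mul, SetLike.mem_coe, gens, List.getD_cons_succ, List.getD_cons_zero] <;>
      first
        | exact hp
        | exact hq
        | exact mul_mem hq ha
        | exact mul_mem hp hb
        | exact mul_mem hr hq

/-- The order and simplicity from one table. -/
theorem simple_card [Finite G] {D : Table} (hD : Checked D) {P : Orbits} (hP : Prim D P)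
    (R : Rels a b p q r s) (hK : D.C.K = 6) (hS : D.C.S = [[0], [1], [2], [3], [4]]) (tl : List ℕ)
    (hWs : D.C.W = (List.range 6).map (fun i => [i, i]) ++ (symRels ++ [tl]).map wordOf)
    (htl : (tl.map (val a b p q r s)).prod = 1)
    (hgen : Subgroup.closure ({a, b, p, q, r, s} : Set G) = ⊤) (hne : sideA a b p q r ≠ ⊤)
    (hcard : Nat.card (sideA a b p q r) = 432) (hcore : (sideA a b p q r).normalCore = ⊥) {m : ℕ} (hm : m.Prime)
    (hm432 : ¬ m ∣ 432) (hn : 1 < D.n) (wit : List (ℕ × List ℕ)) (hwit : rootsOK D m wit = true)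
    (hwit6 : ∀ x < 6, x ∈ wit.map Prod.fst) :
    IsSimpleGroup G ∧ Nat.card G = 432 * D.n := by
  set g := gens a b p q r s
  have hg := gens_invol R
  have hW : ∀ w ∈ D.C.W, wprod g w = 1 := by
    intro w hw
    rw [hWs, List.mem_append] at hw
    rcases hw with hw | hw
    · obtain ⟨i, -, rfl⟩ := List.mem_map.1 hw
      show 1 * g i * g i = 1
      rw [one_mul, hg]
    · obtain ⟨l, hl, rfl⟩ := List.mem_map.1 hw
      rw [wprod_wordOf R]
      rcases List.mem_append.1 hl with hl | hl
      · exact sym_hold R l hl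
      · obtain rfl := List.mem_singleton.1 hl
        exact htl
  have hgen6 : Subgroup.closure (g '' {x | x < D.C.K}) = ⊤ := hK ▸ closure_gens hgen
  have hA : sideA a b p q r = Subgroup.closure (wprod g '' {w | w ∈ D.C.S}) := by rw [hS]; exact sideA_eq
  obtain ⟨φ, hinj, hφ, hidx⟩ := faithful hD hP g hg (fun x hx => List.getD_eq_default _ _ (by
    rw [hK] at hx; simpa using hx)) hW hgen6 hA hne hcore
  refine ⟨isSimpleGroup hD g φ hφ hg hW hgen6 hA P hP hinj hm (by rwa [hcard]) hn fun x hx => ?_, ?_⟩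
  · obtain ⟨hx', u, hu⟩ := rootsOK_spec hwit x (hwit6 x (hK ▸ hx))
    simp only [witOK, Bool.and_eq_true] at hu
    obtain ⟨⟨h1, h2⟩, h3⟩ := hu
    have hone : ∀ w : List ℕ, (∀ y ∈ w, y < D.C.K) → powFixes D w D.n = true → wprod g w = 1 := by
      intro w hw hfix
      apply hinj
      rw [map_wprod, funext hφ, map_one]
      exact Equiv.ext fun c => Fin.ext (by
        rw [wprod_tau hD w hw]; exact powFixes_spec D.n hfix c c.2)
    have hlu := lettersOK_spec h1
    refine ⟨wprod g u, wprod g (x :: u.reverse), ?_, ?_, ?_⟩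
    · rw [← wprod_pow]
      refine hone _ (fun y hy => ?_) h2
      obtain ⟨v, hv, hyv⟩ := List.mem_flatten.mp hy
      exact hlu y (List.eq_of_mem_replicate hv ▸ hyv)
    · rw [← wprod_pow]
      refine hone _ (fun y hy => ?_) h3
      obtain ⟨v, hv, hyv⟩ := List.mem_flatten.mp hy
      rw [List.eq_of_mem_replicate hv] at hyv
      rcases List.mem_cons.mp hyv with rfl | hyv
      · exact hx'
      · exact hlu y (List.mem_reverse.mp hyv)
    · rw [wprod, wprod_reverse g hg, mul_inv_cancel_left]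
  · rw [← (sideA a b p q r).card_mul_index, hcard, hidx]

/-- The two groups. -/
theorem identify [Finite G] (R : Rels a b p q r s)
    (hgen : Subgroup.closure ({a, b, p, q, r, s} : Set G) = ⊤) (hne : sideA a b p q r ≠ ⊤)
    (hcard : Nat.card (sideA a b p q r) = 432) (hcore : (sideA a b p q r).normalCore = ⊥)
    (h : tw a r s ^ 3 = 1 ∨ tw a r s ^ 3 = p) :
    Cfsg.Spor.IsoM12 G ∨ Nonempty (G ≃* Matrix.ProjectiveSpecialLinearGroup (Fin 3) (ZMod 3)) := by
  rcases h with h | h
  · left
    obtain ⟨hs, hc⟩ := simple_card Mathieu.checked Mathieu.prim R rfl rfl symTw words_mathieu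
      (by simpa [symTw, val, tw, pow_succ, mul_assoc] using h) hgen hne hcard hcore
      (by norm_num : Nat.Prime 11) (by norm_num) (by decide +kernel) Mathieu.witnesses
      Mathieu.witnesses_ok (by decide +kernel)
    exact M12Order.Mathieu.equiv ⟨hs, hc.trans (by rfl)⟩ M12Order.Mathieu.isM12_M12
  · right
    have h' : tw a r s ^ 3 * p = 1 := by rw [h, R.pp]
    obtain ⟨hs, hc⟩ := simple_card Linear.checked Linear.prim R rfl rfl (symTw ++ [8]) words_linear
      (by simpa [symTw, val, tw, pow_succ, mul_assoc] using h') hgen hne hcard hcore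
      (by norm_num : Nat.Prime 13) (by norm_num) (by decide +kernel) Linear.witnesses
      Linear.witnesses_ok (by decide +kernel)
    haveI := hs
    exact SmallSimple.Order5616.iso_psl (hc.trans (by rfl))

end Cfsg.Agent.AmalgamM12
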