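import Cfsg.Agent.Lib.CosetCert.Finish
import Cfsg.Agent.Lib.AmalgamM12.LinearFacts0
import Cfsg.Agent.Lib.AmalgamM12.LinearFacts1
import Cfsg.Agent.Lib.AmalgamM12.LinearFacts2
import Cfsg.Agent.Lib.AmalgamM12.LinearFacts3
import Cfsg.Agent.Lib.AmalgamM12.LinearFacts4

/-!
# Coset certificate of Linear: the data
-/

set_option autoImplicit false
set_option linter.all false

namespace Cfsg.Agent.AmalgamM12.Linear

open Cfsg.Agent.CosetCert

/-- The relators. -/
def words : List (List ℕ) :=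
  [[0, 0],
    [1, 1],
    [2, 2],
    [3, 3],
    [4, 4],
    [5, 5],
    [0, 0],
    [1, 1],
    [1, 0, 1, 0],
    [2, 1, 2, 1, 2, 1],
    [3, 0, 3, 0, 3, 0],
    [1, 2, 0, 2, 1, 0],
    [3, 0, 0, 3, 0, 0],
    [2, 1, 1, 2, 1, 1],
    [0, 3, 1, 3, 0, 1],
    [1, 2, 1, 2, 0, 3, 2, 1, 3, 0, 2, 1, 0, 3, 1, 2, 3, 0, 2, 1],
    [0, 3, 1, 2, 0, 3, 2, 1, 3, 0, 3, 0, 0, 3, 1, 2, 3, 0, 2, 1],
    [0, 1, 4, 1, 4],
    [0, 1, 4, 1, 1, 1, 4],
    [1, 2, 0, 3, 2, 1, 3, 0, 4, 1, 3, 0, 1, 4],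
    [1, 4, 2, 1, 1, 4, 2, 1, 1, 4, 2, 1],
    [1, 0, 5, 0, 5],
    [1, 0, 5, 0, 0, 0, 5],
    [0, 3, 1, 2, 3, 0, 2, 1, 5, 0, 2, 1, 0, 5],
    [0, 5, 3, 0, 0, 5, 3, 0, 0, 5, 3, 0],
    [3, 0, 4, 1, 0, 3, 1, 2, 3, 0, 2, 1, 1, 4],
    [1, 2, 5, 0, 0, 3, 1, 2, 3, 0, 2, 1, 0, 5],
    [0, 2, 1, 5, 0, 4, 1, 0, 5, 1, 4, 0, 5, 1, 4, 2, 1, 5, 0, 4, 1, 0, 5, 1, 4, 0, 5, 1, 4, 2, 1, 5, 0, 4, 1, 0, 5, 1, 4, 0, 5, 1, 4]]

/-- The generators of the point stabiliser. -/
def sub : List (List ℕ) := [[0], [1], [2], [3], [4]]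

noncomputable def facts : Tree :=
  (.node 16000 (.node 8000 facts0 facts1) (.node 8000 facts2 (.node 8000 facts3 facts4)))

noncomputable def rows : Tree :=
  (.node 6 (.node 3 (.node 1 (.leaf (nat_lit 0x50000400003000020000100000000000)) (.node 1 (.leaf (nat_lit 0x50000c00009000080000700006500001)) (.leaf (nat_lit 0x1400016000090000b0000a00010300002)))) (.node 1 (.leaf (nat_lit 0x75cc0000c0000f000170000d0000e400003)) (.node 1 (.leaf (nat_lit 0x150001c00012000130001100010000004)) (.leaf (nat_lit 0x21000160001f000200001d0001e400005))))) (.node 3 (.node 1 (.leaf (nat_lit 0x7e2000026000280001707e8200018200006)) (.node 1 (.leaf (nat_lit 0x7e200001c0001f000290001d0001e000008)) (.leaf (nat_lit 0x6005000380002b00020000370002a200009)))) (.node 2 (.node 1 (.leaf (nat_lit 0x21075d70003a0003107e820002210000a)) (.leaf (nat_lit 0x72320004100028000290722f0002a00000c))) (.node 1 (.leaf (nat_lit 0x71ee07e7e000400722c0003707e7f100011)) (.leaf (nat_lit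 0x723207e7e0003a0722c0722f07e7f000013))))))

noncomputable def orbitTree : Tree :=
  (.node 6 (.node 3 (.node 1 (.leaf (nat_lit 0x0)) (.node 1 (.leaf (nat_lit 0x11)) (.leaf (nat_lit 0x103000011)))) (.node 1 (.leaf (nat_lit 0x104000011)) (.node 1 (.leaf (nat_lit 0x200000021)) (.leaf (nat_lit 0x204000021))))) (.node 3 (.node 1 (.leaf (nat_lit 0x202000031)) (.node 1 (.leaf (nat_lit 0x304000041)) (.leaf (nat_lit 0x302000051)))) (.node 2 (.node 1 (.leaf (nat_lit 0x301000061)) (.leaf (nat_lit 0x303000061))) (.node 1 (.leaf (nat_lit 0x401000081)) (.leaf (nat_lit 0x403000091))))))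

/-- The certificate. -/
noncomputable def cert : Cert := ⟨6, words, sub, facts, 32387⟩

/-- The table. -/
noncomputable def table : Table :=
  ⟨cert, 13, rows, [nat_lit 0xb0000c00008000090000a0000500006000070000200003000040000100000,
    nat_lit 0xa000080000c000060000b0000500009000070000400003000020000100000,
    nat_lit 0xb0000c0000700009000050000a00003000080000400006000020000100000,
    nat_lit 0x90000b000060000c00008000050000a000070000400003000010000200000,
    nat_lit 0xb0000c0000a00009000080000400006000020000700001000050000300000,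
    nat_lit 0xa0000b0000c00005000080000600007000090000400003000020000000001]⟩

/-- The orbits of the stabiliser. -/
noncomputable def orbits : Orbits := ⟨orbitTree, [0, 1]⟩

/-- Letters as products of two elements of order dividing 13. -/
def witnesses : List (ℕ × List ℕ) := [(0, [1, 3, 5, 4]), (1, [0, 2, 4, 5]), (2, [0, 3, 4, 5]), (3, [0, 2, 4, 5]), (4, [0, 2, 3, 4, 5]), (5, [0, 2, 3, 5, 4])]

end Cfsg.Agent.AmalgamM12.Linear
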