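import Mathlib.Algebra.Group.Subgroup.Lattice

/-!
# The relations of two subgroups `3^2:GL(2,3)` with a common Borel subgroup

`a, b` generate the Sylow 3-subgroup, `p, q` the four-group, and `r`, `s` are the Weyl elements of the two
sides; `z = a b a⁻¹ b⁻¹` generates the centre of the Sylow subgroup.
-/

set_option autoImplicit false

namespace Cfsg.Agent.AmalgamM12

variable {G : Type*} [Group G]

/-- The relations of the two sides. -/
structure Rels (a b p q r s : G) : Prop where
  pp : p * p = 1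
  qq : q * q = 1
  pq : p * q * p * q = 1
  a3 : a * a * a = 1
  b3 : b * b * b = 1
  pa : p * a * p * a⁻¹ = 1
  pb : p * b * p * b = 1
  qa : q * a * q * a = 1
  qb : q * b * q * b⁻¹ = 1
  za : (a * b * a⁻¹ * b⁻¹) * a = a * (a * b * a⁻¹ * b⁻¹)
  zb : (a * b * a⁻¹ * b⁻¹) * b = b * (a * b * a⁻¹ * b⁻¹)
  rr : r * r = p
  rq : r * q * r⁻¹ = p * q
  rb : r * b * r⁻¹ = a * b * a⁻¹ * b⁻¹
  ar : a * r * a * r * a * r = 1
  ss : s * s = q
  sp : s * p * s⁻¹ = q * p
  sa : s * a * s⁻¹ = b * a * b⁻¹ * a⁻¹
  bs : b * s * b * s * b * s = 1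

/-- The subgroup of the first side. -/
def sideA (a b p q r : G) : Subgroup G := Subgroup.closure {a, b, p, q, r}

/-- The element whose cube lies in the centre of the centralizer of `p`. -/
def tw (a r s : G) : G := r * (s * r * s * r⁻¹ * s⁻¹) * a

end Cfsg.Agent.AmalgamM12
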