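import Mathlib

/-!
# One side of the amalgam: a group `3^2:GL(2,3)` with the natural module

Everything is read off the action on the module: an element of the complement is determined by the images of
a basis, and every pair of independent images occurs.
-/

set_option autoImplicit false
set_option linter.style.haveILetI false

namespace Cfsg.Agent.AmalgamM12

open Subgroup

variable {G : Type*} [Group G]

/-- Conjugation. -/
def cj (g v : G) : G := g * v * g⁻¹

theorem cj_comp (g h v : G) : cj (g * h) v = cj g (cj h v) := by simp [cj, mul_assoc]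

theorem cj_one (v : G) : cj 1 v = v := by simp [cj]

theorem cj_map_one (g : G) : cj g 1 = 1 := by simp [cj]

theorem cj_map_mul (g u v : G) : cj g (u * v) = cj g u * cj g v := by simp [cj, mul_assoc]

theorem cj_map_inv (g v : G) : cj g v⁻¹ = (cj g v)⁻¹ := by simp [cj, mul_assoc]

theorem cj_back {g u v : G} (h : cj g u = v) : cj g⁻¹ v = u := by rw [← h]; simp [cj, mul_assoc]

theorem cj_map_pow (g v : G) : ∀ n : ℕ, cj g (v ^ n) = cj g v ^ n
  | 0 => by simp [cj_map_one]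
  | n + 1 => by rw [pow_succ, pow_succ, cj_map_mul, cj_map_pow g v n]

theorem cj_eq_iff {g v : G} : cj g v = v ↔ g * v = v * g := by rw [cj, mul_inv_eq_iff_eq_mul]

/-- The hypotheses on a side. -/
structure Side (A Q : Subgroup G) : Prop where
  le : Q ≤ A
  card : Nat.card Q = 9
  comm : ∀ u ∈ Q, ∀ v ∈ Q, u * v = v * u
  cube : ∀ u ∈ Q, u * u * u = 1
  self : ∀ g ∈ A, (∀ v ∈ Q, g * v = v * g) → g ∈ Q
  conj : ∀ g ∈ A, ∀ v ∈ Q, cj g v ∈ Q
  cardA : Nat.card A = 432
  center : ∃ g ∈ A, g ∉ Q ∧ g * g ∈ Q ∧ ∀ h ∈ A, h * g * h⁻¹ * g⁻¹ ∈ Q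

/-- A basis of the module. -/
structure Basis (Q : Subgroup G) (z b : G) : Prop where
  zQ : z ∈ Q
  bQ : b ∈ Q
  z1 : z ≠ 1
  bz : b ∉ zpowers z

variable {A Q : Subgroup G} {z b : G}

theorem Side.inv_eq (S : Side A Q) {v : G} (hv : v ∈ Q) : v⁻¹ = v * v :=
  inv_eq_of_mul_eq_one_right (by rw [← mul_assoc]; exact S.cube v hv)

theorem Side.order_three (S : Side A Q) {v : G} (hv : v ∈ Q) (h1 : v ≠ 1) : orderOf v = 3 :=
  orderOf_eq_prime (hp := ⟨Nat.prime_three⟩) (by rw [pow_succ, pow_two]; exact S.cube v hv) h1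

theorem Side.pow_three (S : Side A Q) {v : G} (hv : v ∈ Q) : v ^ 3 = 1 := by
  rw [pow_succ, pow_two]; exact S.cube v hv

theorem Side.zpowers_cases (S : Side A Q) {u v : G} (hu : u ∈ Q) (h : v ∈ zpowers u) :
    v = 1 ∨ v = u ∨ v = u⁻¹ := by
  obtain ⟨k, rfl⟩ := h
  have h3 : u ^ (3 : ℤ) = 1 := by rw [zpow_ofNat]; exact S.pow_three hu
  have e : u ^ k = u ^ (k % 3) := by
    conv_lhs => rw [← Int.emod_add_mul_ediv k 3, zpow_add, zpow_mul, h3, one_zpow, mul_one]
  rcases (show k % 3 = 0 ∨ k % 3 = 1 ∨ k % 3 = 2 by omega) with hk | hk | hk <;> dsimp only <;> rw [e, hk]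
  · exact Or.inl (zpow_zero u)
  · exact Or.inr (Or.inl (zpow_one u))
  · refine Or.inr (Or.inr (eq_inv_of_mul_eq_one_left ?_))
    rw [zpow_two]; exact S.cube u hu

theorem Basis.b1 (B : Basis Q z b) : b ≠ 1 := fun h => B.bz (h ▸ one_mem _)

theorem Side.basis_symm (S : Side A Q) (B : Basis Q z b) : Basis Q b z where
  zQ := B.bQ
  bQ := B.zQ
  z1 := B.b1
  bz h := by
    rcases S.zpowers_cases B.bQ h with e | e | e
    · exact B.z1 e
    · exact B.bz (e ▸ mem_zpowers z)
    · exact B.bz (by rw [← inv_mem_iff, ← e]; exact mem_zpowers z)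

theorem Basis.inv_left (B : Basis Q z b) : Basis Q z⁻¹ b where
  zQ := inv_mem B.zQ
  bQ := B.bQ
  z1 := inv_ne_one.2 B.z1
  bz := by rw [zpowers_inv]; exact B.bz

theorem Basis.inv_right (B : Basis Q z b) : Basis Q z b⁻¹ where
  zQ := B.zQ
  bQ := inv_mem B.bQ
  z1 := B.z1
  bz := by rw [inv_mem_iff]; exact B.bz

/-- The elements of the module. -/
theorem Side.mem_cases [Finite G] (S : Side A Q) (B : Basis Q z b) {v : G} (hv : v ∈ Q) :
    ∃ i j : Fin 3, v = z ^ (i : ℕ) * b ^ (j : ℕ) := by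
  let f : Fin 3 × Fin 3 → Q := fun e =>
    ⟨z ^ (e.1 : ℕ) * b ^ (e.2 : ℕ), mul_mem (pow_mem B.zQ _) (pow_mem B.bQ _)⟩
  have hf : Function.Injective f := by
    rintro ⟨i, j⟩ ⟨k, l⟩ h
    have h' : z ^ (i : ℕ) * b ^ (j : ℕ) = z ^ (k : ℕ) * b ^ (l : ℕ) := congrArg Subtype.val h
    have e : b ^ ((j : ℤ) - l) = z ^ ((k : ℤ) - i) := by
      rw [zpow_sub, zpow_sub, zpow_natCast, zpow_natCast, zpow_natCast, zpow_natCast]
      calc b ^ (j : ℕ) * (b ^ (l : ℕ))⁻¹ = (z ^ (i : ℕ))⁻¹ * (z ^ (i : ℕ) * b ^ (j : ℕ)) * (b ^ (l : ℕ))⁻¹ := by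
            group
        _ = (z ^ (i : ℕ))⁻¹ * z ^ (k : ℕ) := by rw [h']; group
        _ = z ^ (k : ℕ) * (z ^ (i : ℕ))⁻¹ := by
            rw [← zpow_natCast, ← zpow_natCast, ← zpow_neg, ← zpow_add, ← zpow_add, add_comm]
    have hjl : j = l := by
      by_contra hne
      apply B.bz
      have hb3 := S.order_three B.bQ B.b1
      have hd : ¬ (3 : ℤ) ∣ (j : ℤ) - l := fun hd => hne (Fin.ext (by omega))
      rcases S.zpowers_cases B.bQ (⟨(j : ℤ) - l, rfl⟩ : b ^ ((j : ℤ) - l) ∈ zpowers b) with h1 | h1 | h1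
      · exfalso; exact hd (by rw [← orderOf_dvd_iff_zpow_eq_one, hb3] at h1; exact_mod_cast h1)
      · rw [← h1, e]; exact ⟨_, rfl⟩
      · rw [← inv_mem_iff, ← h1, e]; exact ⟨_, rfl⟩
    subst hjl
    have h2 : z ^ (i : ℕ) = z ^ (k : ℕ) := mul_right_cancel h'
    rw [pow_inj_mod, S.order_three B.zQ B.z1, Nat.mod_eq_of_lt i.2, Nat.mod_eq_of_lt k.2] at h2
    rw [Fin.ext h2]
  obtain ⟨⟨i, j⟩, h⟩ := (hf.bijective_of_nat_card_le (by simp [S.card])).2 ⟨v, hv⟩
  exact ⟨i, j, (congrArg Subtype.val h).symm⟩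

/-- An element fixing a basis centralizes the module. -/
theorem Side.mem_of_fix [Finite G] (S : Side A Q) (B : Basis Q z b) {g : G} (hg : g ∈ A) (hz : cj g z = z)
    (hb : cj g b = b) : g ∈ Q := by
  refine S.self g hg fun v hv => cj_eq_iff.1 ?_
  obtain ⟨i, j, rfl⟩ := S.mem_cases B hv
  rw [cj_map_mul, cj_map_pow, cj_map_pow, hz, hb]

/-- All pairs of independent elements are images of the basis. -/
theorem Side.pair [Finite G] (S : Side A Q) (B : Basis Q z b) {u v : G} (B' : Basis Q u v) :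
    ∃ g ∈ A, cj g z = u ∧ cj g b = v := by
  classical
  let P := Σ u : {u : Q // u ≠ 1}, {v : Q // v ∉ zpowers (u : Q)}
  have hP : Nat.card P = 48 := by
    have h6 : ∀ u : {u : Q // u ≠ 1}, Nat.card {v : Q // v ∉ zpowers (u : Q)} = 6 := fun u => by
      have h3 : orderOf (u : Q) = 3 := by
        rw [← orderOf_coe]
        exact S.order_three (u : Q).2 fun e => u.2 (Subtype.ext e)
      calc Nat.card {v : Q // v ∉ zpowers (u : Q)} = ((zpowers (u : Q) : Set Q)ᶜ).ncard :=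
            Nat.card_coe_set_eq _
        _ = Nat.card Q - Nat.card (zpowers (u : Q)) := by
            rw [Set.ncard_compl, ← Nat.card_coe_set_eq (zpowers (u : Q) : Set Q)]; rfl
        _ = 6 := by rw [S.card, Nat.card_zpowers, h3]
    haveI := Fintype.ofFinite {u : Q // u ≠ 1}
    have h8 : Nat.card {u : Q // u ≠ 1} = 8 := by
      calc Nat.card {u : Q // u ≠ 1} = (({1} : Set Q)ᶜ).ncard := Nat.card_coe_set_eq _
        _ = 8 := by rw [Set.ncard_compl, Set.ncard_singleton, S.card]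
    rw [Nat.card_sigma, Finset.sum_congr rfl fun x _ => h6 x, Finset.sum_const, Finset.card_univ,
      ← Nat.card_eq_fintype_card, h8]
    rfl
  have hsub : ∀ {x y : Q}, y ∈ zpowers x ↔ (y : G) ∈ zpowers (x : G) := by
    intro x y
    constructor
    · rintro ⟨k, rfl⟩; exact ⟨k, by simp⟩
    · rintro ⟨k, hk⟩; exact ⟨k, Subtype.ext (by simpa using hk)⟩
  have himg : ∀ g : A, cj (g : G) z ≠ 1 ∧ cj (g : G) b ∉ zpowers (cj (g : G) z) := fun g => by
    constructor
    · intro e; apply B.z1; rw [← cj_back e, cj_map_one]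
    · rintro ⟨k, hk⟩
      refine B.bz ⟨k, ?_⟩
      simp only [cj, conj_zpow] at hk
      exact mul_left_cancel (mul_right_cancel hk)
  let F : A → P := fun g => ⟨⟨⟨cj g z, S.conj g g.2 z B.zQ⟩, fun e => (himg g).1 (congrArg Subtype.val e)⟩,
    ⟨⟨cj g b, S.conj g g.2 b B.bQ⟩, fun e => (himg g).2 (hsub.1 e)⟩⟩
  let N : Subgroup A := Q.subgroupOf A
  have hF : ∀ g h : A, F g = F h ↔ g⁻¹ * h ∈ N := fun g h => by
    have e : F g = F h ↔ cj (g : G) z = cj (h : G) z ∧ cj (g : G) b = cj (h : G) b := by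
      constructor
      · intro e
        exact ⟨congrArg (fun p : P => ((p.1 : Q) : G)) e, congrArg (fun p : P => ((p.2 : Q) : G)) e⟩
      · rintro ⟨e1, e2⟩
        refine Sigma.subtype_ext (Subtype.ext (Subtype.ext e1)) (Subtype.ext e2)
    rw [e, Subgroup.mem_subgroupOf]
    constructor
    · rintro ⟨e1, e2⟩
      refine S.mem_of_fix B (g⁻¹ * h).2 ?_ ?_ <;> rw [Subgroup.coe_mul, Subgroup.coe_inv, cj_comp]
      · rw [← e1]; exact cj_back rfl
      · rw [← e2]; exact cj_back rfl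
    · intro hm
      have hfix : ∀ v ∈ Q, cj (g : G) v = cj (h : G) v := fun v hv => by
        calc cj (g : G) v = cj (g : G) (cj ((g : G)⁻¹ * h) v) := by
              simp only [Subgroup.coe_mul, Subgroup.coe_inv] at hm
              rw [cj_eq_iff.2 (S.comm _ hm _ hv)]
          _ = _ := by rw [← cj_comp, mul_inv_cancel_left]
      exact ⟨hfix z B.zQ, hfix b B.bQ⟩
  let F' : A ⧸ N → P := fun q => Quotient.liftOn' q F fun g h e => by
    rw [QuotientGroup.leftRel_apply] at e; exact (hF g h).2 e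
  have hinj : Function.Injective F' := fun p q => QuotientGroup.induction_on p fun g =>
    QuotientGroup.induction_on q fun h e => QuotientGroup.eq.2 ((hF g h).1 e)
  have hidx : Nat.card (A ⧸ N) = 48 := by
    have h := N.card_mul_index
    rw [Nat.card_congr (subgroupOfEquivOfLe S.le).toEquiv, S.card, S.cardA, index_eq_card] at h
    omega
  obtain ⟨q, hq⟩ := (hinj.bijective_of_nat_card_le (by rw [hP, hidx])).2
    ⟨⟨⟨u, B'.zQ⟩, fun e => B'.z1 (congrArg Subtype.val e)⟩, ⟨⟨v, B'.bQ⟩, fun e => B'.bz (hsub.1 e)⟩⟩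
  induction q using QuotientGroup.induction_on with
  | _ g => exact ⟨g, g.2, congrArg (fun p : P => ((p.1 : Q) : G)) hq, congrArg (fun p : P => ((p.2 : Q) : G)) hq⟩

theorem Side.exists_basis [Finite G] (S : Side A Q) {u : G} (hu : u ∈ Q) (h1 : u ≠ 1) : ∃ v, Basis Q u v := by
  by_contra h
  have hle : Q ≤ zpowers u := fun v hv => by
    by_contra hn
    exact h ⟨v, hu, hv, h1, hn⟩
  have := card_dvd_of_le hle
  rw [S.card, Nat.card_zpowers, S.order_three hu h1] at this
  exact absurd this (by norm_num)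

/-- A central involution. -/
structure Center (A Q : Subgroup G) (t : G) : Prop where
  mem : t ∈ A
  sq : t * t = 1
  invert : ∀ v ∈ Q, cj t v = v⁻¹
  central : ∀ g ∈ A, t * g * t⁻¹ * g⁻¹ ∈ Q

theorem Side.center' [Finite G] (S : Side A Q) : ∃ t, Center A Q t := by
  obtain ⟨g, hg, hgQ, hg2, hc⟩ := S.center
  have h18 : (g ^ 9) * (g ^ 9) = 1 := by
    calc g ^ 9 * g ^ 9 = ((g * g) ^ 3) ^ 3 := by rw [← pow_two g, ← pow_mul, ← pow_mul, ← pow_add]
      _ = 1 := by rw [S.pow_three hg2, one_pow]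
  set t := g ^ 9 with ht
  set q := (g * g) ^ 4 with hq
  have hqQ : q ∈ Q := pow_mem hg2 4
  have et : t = q * g := by rw [ht, hq, ← pow_two, ← pow_mul, ← pow_succ]
  have htA : t ∈ A := pow_mem hg 9
  have htQ : t ∉ Q := fun h => hgQ (by
    have := mul_mem (inv_mem hqQ) h
    rwa [et, inv_mul_cancel_left] at this)
  have hcen : ∀ h ∈ A, t * h * t⁻¹ * h⁻¹ ∈ Q := fun h hh => by
    have e : t * h * t⁻¹ * h⁻¹ = q * (h * g * h⁻¹ * g⁻¹)⁻¹ * cj h q⁻¹ := by rw [et, cj]; group
    rw [e]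
    exact mul_mem (mul_mem hqQ (inv_mem (hc h hh))) (S.conj h hh _ (inv_mem hqQ))
  refine ⟨t, htA, h18, fun v hv => ?_, hcen⟩
  have hti : t⁻¹ = t := inv_eq_of_mul_eq_one_right h18
  set w := v * cj t v with hw
  have hwQ : w ∈ Q := mul_mem hv (S.conj t htA v hv)
  have hwfix : cj t w = w := by
    rw [hw, cj_map_mul, ← cj_comp, h18, cj_one]
    exact S.comm _ (S.conj t htA v hv) _ hv
  by_cases hw1 : w = 1
  · exact eq_inv_of_mul_eq_one_right hw1
  exfalso
  refine htQ (S.self t htA fun u hu => cj_eq_iff.1 ?_)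
  by_cases hu1 : u = 1
  · rw [hu1, cj_map_one]
  obtain ⟨w', Bw⟩ := S.exists_basis hwQ hw1
  obtain ⟨u', Bu⟩ := S.exists_basis hu hu1
  obtain ⟨h, hh, he, -⟩ := S.pair Bw Bu
  have hc' := hcen h hh
  calc cj t u = cj (t * h) w := by rw [cj_comp, he]
    _ = cj (t * h * t⁻¹ * h⁻¹) (cj h (cj t w)) := by rw [← cj_comp, ← cj_comp]; congr 1; group
    _ = u := by rw [hwfix, he]; exact cj_eq_iff.2 (S.comm _ hc' _ hu)

namespace Center

variable {t : G}

theorem inv' (C : Center A Q t) : t⁻¹ = t := inv_eq_of_mul_eq_one_right C.sq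

/-- Every element differs by the module from one commuting with `t`. -/
theorem exists_comm (C : Center A Q t) (S : Side A Q) {g : G} (hg : g ∈ A) :
    ∃ w ∈ Q, t * (w * g) = w * g * t := by
  set v := t * g * t⁻¹ * g⁻¹ with hv
  have hvQ : v ∈ Q := C.central g hg
  refine ⟨v⁻¹, inv_mem hvQ, ?_⟩
  have e : t * v⁻¹ = v * t := by
    have := C.invert _ (inv_mem hvQ)
    rw [inv_inv, cj, mul_inv_eq_iff_eq_mul] at this
    exact this
  calc t * (v⁻¹ * g) = v * t * g := by rw [← mul_assoc, e]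
    _ = v * v * g * t := by rw [hv]; group
    _ = v⁻¹ * g * t := by rw [← S.inv_eq hvQ]

theorem eq_one_of_mem (C : Center A Q t) (S : Side A Q) {v : G} (hv : v ∈ Q) (h : t * v = v * t) : v = 1 := by
  have e : v⁻¹ = v := (C.invert v hv).symm.trans (cj_eq_iff.2 h)
  have := S.cube v hv
  rwa [show v * v = 1 by nth_rewrite 1 [← e]; exact inv_mul_cancel v, one_mul] at this

/-- An element of the complement is determined by the images of a basis. -/
theorem ext [Finite G] (C : Center A Q t) (S : Side A Q) (B : Basis Q z b) {g h : G} (hg : g ∈ A) (hh : h ∈ A)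
    (hgt : t * g = g * t) (hht : t * h = h * t) (ez : cj g z = cj h z) (eb : cj g b = cj h b) : g = h := by
  have hc : Commute t (g⁻¹ * h) := (Commute.inv_right (show Commute t g from hgt)).mul_right hht
  have hm : g⁻¹ * h ∈ Q := S.mem_of_fix B (mul_mem (inv_mem hg) hh)
    (by rw [cj_comp, ← ez]; exact cj_back rfl) (by rw [cj_comp, ← eb]; exact cj_back rfl)
  exact inv_mul_eq_one.1 (C.eq_one_of_mem S hm hc.eq)

/-- A pair of images realised in the complement. -/
theorem pair [Finite G] (C : Center A Q t) (S : Side A Q) (B : Basis Q z b) {u v : G} (B' : Basis Q u v) :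
    ∃ g ∈ A, t * g = g * t ∧ cj g z = u ∧ cj g b = v := by
  obtain ⟨g, hg, e1, e2⟩ := S.pair B B'
  obtain ⟨w, hw, hc⟩ := C.exists_comm S hg
  refine ⟨w * g, mul_mem (S.le hw) hg, hc, ?_, ?_⟩
  · rw [cj_comp, e1]; exact cj_eq_iff.2 (S.comm _ hw _ B'.zQ)
  · rw [cj_comp, e2]; exact cj_eq_iff.2 (S.comm _ hw _ B'.bQ)

/-- The Weyl element, its relations, and the generation of the side. -/
theorem weyl [Finite G] (C : Center A Q t) (S : Side A Q) (B : Basis Q z b) {a u : G} (ha : a ∈ A) (hu : u ∈ A)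
    (hta : t * a = a * t) (htu : t * u = u * t) (az : cj a z = z) (ab : cj a b = z * b)
    (uz : cj u z = z⁻¹) (ub : cj u b = b) :
    ∃ r ∈ A, t * r = r * t ∧ cj r z = b⁻¹ ∧ cj r b = z ∧ r * r = t ∧ r * u * r⁻¹ = t * u ∧
      a * r * a * r * a * r = 1 ∧ closure {a, b, t, u, r} = A := by
  obtain ⟨r, hr, htr, rz, rb⟩ := C.pair S B (S.basis_symm B).inv_left
  have hzb : z * b = b * z := S.comm z B.zQ b B.bQ
  have tz := C.invert z B.zQ
  have tb := C.invert b B.bQ
  have rz' : cj r⁻¹ z = b := cj_back rb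
  have rb' : cj r⁻¹ b = z⁻¹ := cj_back (by rw [cj_map_inv, rz, inv_inv])
  have e1 : r * r = t := C.ext S B (mul_mem hr hr) C.mem
    (Commute.mul_right (show Commute t r from htr) htr).eq rfl
    (by simp [cj_comp, rz, rb, cj_map_inv, tz]) (by simp [cj_comp, rz, rb, cj_map_inv, tb])
  have e2 : r * u * r⁻¹ = t * u := C.ext S B (mul_mem (mul_mem hr hu) (inv_mem hr)) (mul_mem C.mem hu)
    ((Commute.mul_right (show Commute t r from htr) htu).mul_right (show Commute t r from htr).inv_right).eq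
    (Commute.mul_right (Commute.refl t) htu).eq
    (by simp [cj_comp, rz', ub, rb, uz, cj_map_inv, tz])
    (by simp [cj_comp, rb', uz, rz, ub, cj_map_inv, tb])
  have e3 : a * r * a * r * a * r = 1 := C.ext S B
    (mul_mem (mul_mem (mul_mem (mul_mem (mul_mem ha hr) ha) hr) ha) hr) (one_mem A)
    (((((Commute.mul_right (show Commute t a from hta) htr).mul_right hta).mul_right htr).mul_right
      hta).mul_right htr).eq (by simp)
    (by simp [cj_comp, cj_one, rz, rb, az, ab, cj_map_inv, cj_map_mul])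
    (by simp [cj_comp, cj_one, rz, rb, az, ab, cj_map_inv, cj_map_mul])
  refine ⟨r, hr, htr, rz, rb, e1, e2, e3, ?_⟩
  apply le_antisymm
  · rw [closure_le]
    rintro _ (rfl | rfl | rfl | rfl | rfl)
    exacts [ha, S.le B.bQ, C.mem, hu, hr]
  set K : Subgroup G := closure {a, b, t, u, r}
  have haK : a ∈ K := subset_closure (by simp)
  have hbK : b ∈ K := subset_closure (by simp)
  have htK : t ∈ K := subset_closure (by simp)
  have huK : u ∈ K := subset_closure (by simp)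
  have hrK : r ∈ K := subset_closure (by simp)
  have hzK : z ∈ K := rb ▸ mul_mem (mul_mem hrK hbK) (inv_mem hrK)
  have hQK : Q ≤ K := fun v hv => by
    obtain ⟨i, j, rfl⟩ := S.mem_cases B hv
    exact mul_mem (pow_mem hzK _) (pow_mem hbK _)
  have apow : ∀ n : ℕ, cj (a ^ n) z = z ∧ cj (a ^ n) b = z ^ n * b := by
    intro n
    induction n with
    | zero => simp [cj_one]
    | succ n ih =>
      rw [pow_succ', cj_comp, cj_comp, ih.1, ih.2]
      refine ⟨az, ?_⟩
      rw [cj_map_mul, cj_map_pow, az, ab, ← mul_assoc, ← pow_succ]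
  -- the elements of `K` move `z` everywhere
  have move : ∀ v ∈ Q, v ≠ 1 → ∃ k ∈ K, cj k z = v := by
    intro v hv hv1
    obtain ⟨i, j, rfl⟩ := S.mem_cases B hv
    fin_cases j
    · fin_cases i
      · simp at hv1
      · exact ⟨1, one_mem K, by simp [cj_one]⟩
      · exact ⟨t, htK, by simp [tz, S.inv_eq B.zQ, pow_two]⟩
    · refine ⟨a ^ (i : ℕ) * (t * r), mul_mem (pow_mem haK _) (mul_mem htK hrK), ?_⟩
      simp [cj_comp, rz, cj_map_inv, tb, (apow (i : ℕ)).2]
    · obtain ⟨n, hn⟩ : ∃ n : ℕ, (z ^ n * b)⁻¹ = z ^ (i : ℕ) * b ^ 2 := by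
        refine ⟨2 * (i : ℕ), ?_⟩
        rw [_root_.mul_inv_rev, S.inv_eq B.bQ, ← inv_pow, S.inv_eq B.zQ, ← pow_two, ← pow_two, ← pow_mul]
        rw [((show Commute z b from hzb).pow_pow _ 2).eq]
        congr 1
        rw [pow_eq_pow_mod _ (S.pow_three B.zQ)]
        congr 1
        omega
      refine ⟨a ^ n * r, mul_mem (pow_mem haK _) hrK, ?_⟩
      show _ = z ^ (i : ℕ) * b ^ 2
      rw [cj_comp, rz, cj_map_inv, (apow n).2, hn]
  intro g hg
  obtain ⟨k, hk, ek⟩ := move (cj g z) (S.conj g hg z B.zQ) (fun e => B.z1 (by rw [← cj_back e, cj_map_one]))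
  have hkA : k ∈ A := by
    refine (closure_le A).2 ?_ hk
    rintro _ (rfl | rfl | rfl | rfl | rfl)
    exacts [ha, S.le B.bQ, C.mem, hu, hr]
  have hz' : cj (k⁻¹ * g) z = z := by rw [cj_comp, ← ek]; exact cj_back rfl
  have hgA : k⁻¹ * g ∈ A := mul_mem (inv_mem hkA) hg
  obtain ⟨i, j, eb⟩ := S.mem_cases B (S.conj _ hgA b B.bQ)
  obtain ⟨h, hhK, hhA, hhz, hhb⟩ : ∃ h ∈ K, h ∈ A ∧ cj h z = z ∧ cj h b = z ^ (i : ℕ) * b ^ (j : ℕ) := by
    fin_cases j
    · exfalso
      apply B.bz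
      simp only [Fin.isValue, pow_zero, mul_one] at eb
      have h5 : cj (k⁻¹ * g) b = cj (k⁻¹ * g) (z ^ (i : ℕ)) := by rw [cj_map_pow, hz']; exact eb
      rw [show b = z ^ (i : ℕ) from mul_left_cancel (mul_right_cancel h5)]
      exact pow_mem (mem_zpowers z) _
    · exact ⟨a ^ (i : ℕ), pow_mem haK _, pow_mem ha _, (apow _).1, by simp [(apow (i : ℕ)).2]⟩
    · refine ⟨a ^ (i : ℕ) * a ^ (i : ℕ) * (t * u), mul_mem (mul_mem (pow_mem haK _) (pow_mem haK _))
        (mul_mem htK huK), mul_mem (mul_mem (pow_mem ha _) (pow_mem ha _)) (mul_mem C.mem hu), ?_, ?_⟩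
      · simp [cj_comp, uz, cj_map_inv, tz, (apow (i : ℕ)).1]
      · show _ = z ^ (i : ℕ) * b ^ 2
        simp only [cj_comp, ub, tb, cj_map_inv, cj_map_mul, cj_map_pow, (apow (i : ℕ)).1, (apow (i : ℕ)).2]
        rw [_root_.mul_inv_rev, _root_.mul_inv_rev, S.inv_eq B.bQ, ← inv_pow, ← pow_two,
          ((show Commute z b from hzb).inv_left.pow_pow _ 2).symm.eq]
        rw [mul_assoc, ((show Commute z b from hzb).inv_left.pow_pow _ 2).symm.eq, ← mul_assoc, ← pow_add]
        congr 1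
        rw [S.inv_eq B.zQ, ← pow_two, ← pow_mul, pow_eq_pow_mod _ (S.pow_three B.zQ)]
        congr 1
        omega
  have hm : h⁻¹ * (k⁻¹ * g) ∈ Q := S.mem_of_fix B (mul_mem (inv_mem hhA) hgA)
    (by rw [cj_comp, hz']; exact cj_back hhz) (by rw [cj_comp, eb]; exact cj_back hhb)
  have := mul_mem hk (mul_mem hhK (hQK hm))
  rwa [mul_inv_cancel_left, mul_inv_cancel_left] at this

end Center

end Cfsg.Agent.AmalgamM12
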