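import Cfsg.Agent.Lib.AmalgamM12.Rels
import Cfsg.Agent.Lib.AmalgamM12.Side
import Cfsg.Agent.Lib.PLocal.Cores
import Cfsg.Prelude.Def_Solvable

/-!
# The generators of an amalgam of two groups `3^2:GL(2,3)`
-/

set_option autoImplicit false
set_option linter.style.haveILetI false

namespace Cfsg.Agent.AmalgamM12

open Subgroup

local notation "GL23" => GL (Fin 2) (ZMod 3)

theorem natCard_GL23 : Nat.card GL23 = 48 := by
  rw [Matrix.card_GL_field, Fin.prod_univ_two, ZMod.card]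
  norm_num

theorem exists_neg_one : ∃ c : GL23, c ≠ 1 ∧ c * c = 1 ∧ ∀ g : GL23, g * c = c * g := by
  refine ⟨⟨-1, -1, neg_one_mul_neg_one, neg_one_mul_neg_one⟩, fun e => ?_, Units.ext neg_one_mul_neg_one,
    fun g => Units.ext ?_⟩
  · have h := congrArg (fun m : GL23 => (m : Matrix (Fin 2) (Fin 2) (ZMod 3)) 0 0) e
    simp at h
    exact absurd h (by decide)
  · show (g : Matrix (Fin 2) (Fin 2) (ZMod 3)) * -1 = -1 * g
    rw [mul_neg, neg_mul, mul_one, one_mul]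
where
  neg_one_mul_neg_one : (-1 : Matrix (Fin 2) (Fin 2) (ZMod 3)) * -1 = 1 := by rw [neg_mul_neg, one_mul]

variable {G : Type*} [Group G] [Finite G]

/-- A side from the hypotheses on a subgroup. -/
theorem side_of (A : Subgroup G) (eA : A ⧸ Cfsg.pCore 3 A ≃* GL23)
    (hO : IsMulCommutative (Cfsg.pCore 3 A) ∧ (∀ x ∈ Cfsg.pCore 3 A, x ^ 3 = 1) ∧
      Nat.card (Cfsg.pCore 3 A) = 9 ∧
      Subgroup.centralizer ((Cfsg.pCore 3 A : Subgroup A) : Set A) = Cfsg.pCore 3 A) :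
    Side A ((Cfsg.pCore 3 A).map A.subtype) := by
  obtain ⟨hc, h3, h9, hself⟩ := hO
  refine ⟨map_subtype_le _, ?_, ?_, ?_, ?_, ?_, ?_, ?_⟩
  · rw [card_map_of_injective (f := A.subtype) A.subtype_injective, h9]
  · rintro _ ⟨u, hu, rfl⟩ _ ⟨v, hv, rfl⟩
    exact congrArg (fun w : A => (w : G)) (congrArg Subtype.val (hc.is_comm.comm ⟨u, hu⟩ ⟨v, hv⟩))
  · rintro _ ⟨u, hu, rfl⟩
    have := congrArg Subtype.val (h3 u hu)
    simpa [pow_succ] using this
  · intro g hg hcg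
    refine ⟨⟨g, hg⟩, ?_, rfl⟩
    show (⟨g, hg⟩ : A) ∈ Cfsg.pCore 3 A
    rw [← hself]
    exact mem_centralizer_iff.2 fun v hv => Subtype.ext (hcg _ ⟨v, hv, rfl⟩).symm
  · rintro g hg _ ⟨v, hv, rfl⟩
    exact ⟨⟨g, hg⟩ * v * ⟨g, hg⟩⁻¹, (inferInstance : (Cfsg.pCore 3 A).Normal).conj_mem v hv _, rfl⟩
  · rw [← card_mul_index (Cfsg.pCore 3 A), h9, index_eq_card, Nat.card_congr eA.toEquiv, natCard_GL23]
  · obtain ⟨c, hc1, hc2, hcc⟩ := exists_neg_one
    obtain ⟨g, hg⟩ := QuotientGroup.mk'_surjective (Cfsg.pCore 3 A) (eA.symm c)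
    have hmem : ∀ u : A, u ∈ Cfsg.pCore 3 A ↔ (u : G) ∈ (Cfsg.pCore 3 A).map A.subtype := fun u => by
      constructor
      · intro h; exact ⟨u, h, rfl⟩
      · rintro ⟨v, hv, e⟩
        rwa [← Subtype.ext (show (v : G) = u from e)]
    refine ⟨g, g.2, fun h => hc1 ?_, ?_, fun h hh => ?_⟩
    · have h1 := (QuotientGroup.eq_one_iff g).2 ((hmem g).2 h)
      rw [show QuotientGroup.mk' (Cfsg.pCore 3 A) g = (g : A ⧸ Cfsg.pCore 3 A) from rfl, h1] at hg
      rw [← eA.apply_symm_apply c, ← hg, map_one]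
    · refine (hmem (g * g)).1 ((QuotientGroup.eq_one_iff _).1 ?_)
      show QuotientGroup.mk' (Cfsg.pCore 3 A) (g * g) = 1
      rw [map_mul, hg, ← map_mul, hc2, map_one]
    · refine (hmem (⟨h, hh⟩ * g * ⟨h, hh⟩⁻¹ * g⁻¹)).1 ((QuotientGroup.eq_one_iff _).1 ?_)
      show QuotientGroup.mk' (Cfsg.pCore 3 A) (⟨h, hh⟩ * g * ⟨h, hh⟩⁻¹ * g⁻¹) = 1
      refine eA.injective ?_
      rw [map_one, map_mul, map_mul, map_mul, map_inv, map_inv, map_mul, map_mul, map_mul, map_inv, map_inv,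
        hg, eA.apply_symm_apply, hcc, mul_inv_cancel_right, mul_inv_cancel]

/-- A normal 3-subgroup of a side lies in every subgroup of order `27`. -/
theorem Side.le_sylow {A Q P : Subgroup G} (S : Side A Q) (hPA : P ≤ A) (hP : Nat.card P = 27) : Q ≤ P := by
  haveI : Fact (Nat.Prime 3) := ⟨Nat.prime_three⟩
  have hQn : (Q.subgroupOf A).Normal := ⟨fun v hv g => by
    rw [mem_subgroupOf] at hv ⊢
    exact S.conj g g.2 v hv⟩
  have hQ3 : IsPGroup 3 (Q.subgroupOf A) := IsPGroup.of_card (n := 2) (by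
    rw [Nat.card_congr (subgroupOfEquivOfLe S.le).toEquiv, S.card]; norm_num)
  have hP3 : IsPGroup 3 (P.subgroupOf A) := IsPGroup.of_card (n := 3) (by
    rw [Nat.card_congr (subgroupOfEquivOfLe hPA).toEquiv, hP]; norm_num)
  obtain ⟨k, hk⟩ := IsPGroup.iff_card.1 (hP3.to_sup_of_normal_right hQ3)
  have hdvd := card_subgroup_dvd_card (P.subgroupOf A ⊔ Q.subgroupOf A)
  rw [hk, S.cardA] at hdvd
  have hk3 : k ≤ 3 := by
    by_contra hlt
    have h81 : 81 ∣ 432 := (pow_dvd_pow 3 (show 4 ≤ k by omega)).trans hdvd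
    norm_num at h81
  have heq : P.subgroupOf A ⊔ Q.subgroupOf A = P.subgroupOf A := (eq_of_le_of_card_ge le_sup_left (by
    rw [hk, Nat.card_congr (subgroupOfEquivOfLe hPA).toEquiv, hP]
    exact Nat.pow_le_pow_right (by norm_num) hk3)).symm
  intro v hv
  have : (⟨v, S.le hv⟩ : A) ∈ P.subgroupOf A := heq ▸ mem_sup_right (mem_subgroupOf.2 hv)
  exact mem_subgroupOf.1 this

/-- The configuration. -/
structure Config (A B QA QB : Subgroup G) : Prop where
  sA : Side A QA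
  sB : Side B QB
  leA : QA ≤ B
  leB : QB ≤ A
  ne : ¬ B ≤ A
  core : ∀ N : Subgroup G, N ≤ A ⊓ B → (∀ a ∈ A, ∀ n ∈ N, cj a n ∈ N) → (∀ b ∈ B, ∀ n ∈ N, cj b n ∈ N) → N = ⊥
  cardZ : Nat.card (QA ⊓ QB : Subgroup G) = 3
  norm : normalizer ((QA ⊓ QB : Subgroup G) : Set G) ≤ A ⊓ B

theorem mem_normalizer_of_conj {Z : Subgroup G} {g : G} (h : ∀ v ∈ Z, cj g v ∈ Z) (h' : ∀ v ∈ Z, cj g⁻¹ v ∈ Z) :
    g ∈ normalizer (Z : Set G) := mem_normalizer_iff.2 fun v => ⟨h v, fun hv => by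
  have := h' _ hv
  rwa [← cj, ← cj_comp, inv_mul_cancel, cj_one] at this⟩

theorem exists_config (A B : Subgroup G) (hSylA : ¬ 3 ∣ ((A ⊓ B).subgroupOf A).index)
    (hcore : ∀ N : Subgroup G, N ≤ A ⊓ B → (∀ a ∈ A, N.map (MulAut.conj a).toMonoidHom = N) →
      (∀ b ∈ B, N.map (MulAut.conj b).toMonoidHom = N) → N = ⊥)
    (eA : A ⧸ Cfsg.pCore 3 A ≃* GL23) (eB : B ⧸ Cfsg.pCore 3 B ≃* GL23)
    (hOA : IsMulCommutative (Cfsg.pCore 3 A) ∧ (∀ x ∈ Cfsg.pCore 3 A, x ^ 3 = 1) ∧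
      Nat.card (Cfsg.pCore 3 A) = 9 ∧
      Subgroup.centralizer ((Cfsg.pCore 3 A : Subgroup A) : Set A) = Cfsg.pCore 3 A)
    (hOB : IsMulCommutative (Cfsg.pCore 3 B) ∧ (∀ x ∈ Cfsg.pCore 3 B, x ^ 3 = 1) ∧
      Nat.card (Cfsg.pCore 3 B) = 9 ∧
      Subgroup.centralizer ((Cfsg.pCore 3 B : Subgroup B) : Set B) = Cfsg.pCore 3 B)
    (S : Sylow 3 ↥(A ⊓ B)) (Z : Subgroup G)
    (hZ : Z = ((S : Subgroup ↥(A ⊓ B)) ⊓ Subgroup.centralizer ((S : Subgroup ↥(A ⊓ B)) : Set ↥(A ⊓ B))).map (A ⊓ B).subtype)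
    (hNZ : Subgroup.normalizer (Z : Set G) ≤ A ⊓ B) :
    Config A B ((Cfsg.pCore 3 A).map A.subtype) ((Cfsg.pCore 3 B).map B.subtype) := by
  haveI : Fact (Nat.Prime 3) := ⟨Nat.prime_three⟩
  have sA := side_of A eA hOA
  have sB := side_of B eB hOB
  set QA := (Cfsg.pCore 3 A).map A.subtype
  set QB := (Cfsg.pCore 3 B).map B.subtype
  set P : Subgroup G := (S : Subgroup ↥(A ⊓ B)).map (A ⊓ B).subtype with hPdef
  have hP : Nat.card P = 27 := by
    have h := ((A ⊓ B).subgroupOf A).card_mul_index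
    rw [Nat.card_congr (subgroupOfEquivOfLe (inf_le_left : A ⊓ B ≤ A)).toEquiv, sA.cardA] at h
    have hi0 : ((A ⊓ B).subgroupOf A).index ≠ 0 := index_ne_zero_of_finite
    have hH0 : Nat.card ↥(A ⊓ B) ≠ 0 := Nat.card_pos.ne'
    rw [hPdef, card_map_of_injective (f := (A ⊓ B).subtype) (A ⊓ B).subtype_injective, S.card_eq_multiplicity]
    have hf : (Nat.card ↥(A ⊓ B)).factorization 3 = 3 := by
      have h' := congrArg (fun n => n.factorization 3) h
      simp only [Nat.factorization_mul hH0 hi0, Finsupp.add_apply] at h'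
      rw [Nat.factorization_eq_zero_of_not_dvd hSylA, add_zero] at h'
      rw [h', show (432 : ℕ) = 3 ^ 3 * 16 by norm_num, Nat.factorization_mul (by norm_num) (by norm_num),
        Finsupp.add_apply, Nat.Prime.factorization_pow Nat.prime_three, Finsupp.single_eq_same,
        Nat.factorization_eq_zero_of_not_dvd (by norm_num : ¬ 3 ∣ 16)]
    rw [hf]; norm_num
  have hPH : P ≤ A ⊓ B := map_subtype_le _
  have hQAP := sA.le_sylow (hPH.trans inf_le_left) hP
  have hQBP := sB.le_sylow (hPH.trans inf_le_right) hP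
  have core' : ∀ N : Subgroup G, N ≤ A ⊓ B → (∀ a ∈ A, ∀ n ∈ N, cj a n ∈ N) →
      (∀ b ∈ B, ∀ n ∈ N, cj b n ∈ N) → N = ⊥ := by
    intro N hN hA hB
    have hmap : ∀ {T : Subgroup G}, (∀ a ∈ T, ∀ n ∈ N, cj a n ∈ N) → ∀ a ∈ T,
        N.map (MulAut.conj a).toMonoidHom = N := by
      intro T hT a ha
      refine le_antisymm (by rintro _ ⟨n, hn, rfl⟩; exact hT a ha n hn) fun n hn =>
        ⟨cj a⁻¹ n, hT _ (inv_mem ha) n hn, ?_⟩
      show cj a (cj a⁻¹ n) = n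
      rw [← cj_comp, mul_inv_cancel, cj_one]
    exact hcore N hN (hmap hA) (hmap hB)
  have hne : ¬ B ≤ A := by
    intro hle
    have hAB : B = A := eq_of_le_of_card_ge hle (by rw [sA.cardA, sB.cardA])
    have h0 : QA = ⊥ := core' QA (le_inf sA.le (hAB ▸ sA.le)) sA.conj (fun b hb => sA.conj b (hAB ▸ hb))
    have h9 := sA.card
    rw [h0, Subgroup.card_bot] at h9
    norm_num at h9
  have hQne : QA ≠ QB := fun e => by
    have h0 : QA = ⊥ := core' QA (hQAP.trans hPH) sA.conj (fun b hb => by rw [e]; exact sB.conj b hb)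
    have h9 := sA.card
    rw [h0, Subgroup.card_bot] at h9
    norm_num at h9
  have hPA : ∀ g ∈ P, ∀ v ∈ QA, cj g v ∈ QA := fun g hg => sA.conj g (hPH hg).1
  have hcardI : Nat.card (QA ⊓ QB : Subgroup G) = 3 := by
    have hd : Nat.card (QA ⊓ QB : Subgroup G) ∣ 3 ^ 2 := by
      rw [show (3 : ℕ) ^ 2 = 9 by norm_num, ← sA.card]; exact card_dvd_of_le inf_le_left
    obtain ⟨k, hk, e⟩ := (Nat.dvd_prime_pow Nat.prime_three).1 hd
    interval_cases k
    · exfalso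
      have hbot : QA ⊓ QB = ⊥ := card_eq_one.1 (by simpa using e)
      let m : QA × QB → P := fun uv => ⟨uv.1 * uv.2, mul_mem (hQAP uv.1.2) (hQBP uv.2.2)⟩
      have hm : Function.Injective m := by
        rintro ⟨u, v⟩ ⟨u', v'⟩ h
        have h' : (u : G) * v = u' * v' := congrArg Subtype.val h
        have hx : (u' : G)⁻¹ * u = v' * (v : G)⁻¹ := by
          rw [inv_mul_eq_iff_eq_mul, ← mul_assoc, ← h', mul_inv_cancel_right]
        have h1 : (u' : G)⁻¹ * u = 1 := mem_bot.1 (hbot ▸ mem_inf.2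
          ⟨mul_mem (inv_mem u'.2) u.2, hx ▸ mul_mem v'.2 (inv_mem v.2)⟩)
        have e1 : (u : G) = u' := (inv_mul_eq_one.1 h1).symm
        rw [e1] at h'
        exact Prod.ext (Subtype.ext e1) (Subtype.ext (mul_left_cancel h'))
      have hle := Nat.card_le_card_of_injective m hm
      rw [Nat.card_prod, sA.card, sB.card, hP] at hle
      omega
    · simpa using e
    · exfalso
      have e1 : QA ⊓ QB = QA := eq_of_le_of_card_ge inf_le_left (by rw [sA.card, e]; norm_num)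
      exact hQne (eq_of_le_of_card_ge (e1 ▸ inf_le_right) (by rw [sA.card, sB.card]))
  have hZI : Z = QA ⊓ QB := by
    have hZ' : ∀ g, g ∈ Z ↔ g ∈ P ∧ ∀ v ∈ P, v * g = g * v := by
      intro g
      rw [hZ]
      constructor
      · rintro ⟨u, ⟨hu, hc⟩, rfl⟩
        refine ⟨⟨u, hu, rfl⟩, ?_⟩
        rintro _ ⟨v, hv, rfl⟩
        exact congrArg Subtype.val (mem_centralizer_iff.1 hc v hv)
      · rintro ⟨⟨u, hu, rfl⟩, hc⟩
        exact ⟨u, ⟨hu, mem_centralizer_iff.2 fun v hv => Subtype.ext (hc _ ⟨v, hv, rfl⟩)⟩, rfl⟩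
    apply le_antisymm
    · intro g hg
      obtain ⟨hgP, hc⟩ := (hZ' g).1 hg
      exact ⟨sA.self g (hPH hgP).1 fun v hv => (hc v (hQAP hv)).symm,
        sB.self g (hPH hgP).2 fun v hv => (hc v (hQBP hv)).symm⟩
    · intro g hg
      refine (hZ' g).2 ⟨hQAP hg.1, fun v hv => ?_⟩
      -- `P` is generated by the two normal subgroups
      have hle : QA ⊔ QB ≤ Subgroup.centralizer ({g} : Set G) := sup_le
        (fun u hu => mem_centralizer_singleton_iff.2 (sA.comm u hu g hg.1))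
        (fun u hu => mem_centralizer_singleton_iff.2 (sB.comm u hu g hg.2))
      have hsup : QA ⊔ QB = P := by
        refine eq_of_le_of_card_ge (sup_le hQAP hQBP) ?_
        let m : QA × QB → (QA ⊔ QB : Subgroup G) := fun uv =>
          ⟨uv.1 * uv.2, mul_mem (mem_sup_left uv.1.2) (mem_sup_right uv.2.2)⟩
        have hd := card_dvd_of_le (le_sup_left : QA ≤ QA ⊔ QB)
        have hd2 := card_dvd_of_le (sup_le hQAP hQBP : QA ⊔ QB ≤ P)
        rw [hP] at hd2 ⊢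
        rw [sA.card] at hd
        by_contra hlt
        have hle9 : Nat.card (QA ⊔ QB : Subgroup G) ≤ 9 := by
          obtain ⟨k, hk, e⟩ := (Nat.dvd_prime_pow Nat.prime_three).1
            (show Nat.card (QA ⊔ QB : Subgroup G) ∣ 3 ^ 3 by simpa using hd2)
          rw [e] at hlt ⊢
          interval_cases k <;> simp at hlt ⊢
        have e1 : QA = QA ⊔ QB := eq_of_le_of_card_ge le_sup_left (by rw [sA.card]; exact hle9)
        exact hQne (eq_of_le_of_card_ge (e1 ▸ le_sup_right) (by rw [sA.card, sB.card])).symm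
      exact mem_centralizer_singleton_iff.1 (hle (hsup ▸ hv))
  exact ⟨sA, sB, hQAP.trans (hPH.trans inf_le_right), hQBP.trans (hPH.trans inf_le_left), hne, core', hcardI,
    hZI ▸ hNZ⟩

end Cfsg.Agent.AmalgamM12
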