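import Cfsg.Agent.Lib.AmalgamM12.Rels
import Cfsg.Agent.Lib.SelfThree.Main
import Cfsg.Agent.Lib.SmallSimple.Order168

/-!
# The relation in the centralizer of the first involution

Modulo `p` the element `a` is self-centralizing of order three, and the two involutions lie in the normal
subgroup of order prime to three.
-/

set_option autoImplicit false
set_option linter.style.haveILetI false

namespace Cfsg.Agent.AmalgamM12

open Subgroup Cfsg.Agent.SelfThree

universe u

variable {L : Type u} [Group L] [Finite L] {x : L}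

/-- In a simple group of order sixty with such an element, every 2-element has square one. -/
theorem sq_eq_one_of_sixty [IsSimpleGroup L] (hx : Self x) (h60 : Nat.card L = 60) {y : L}
    (h4 : y * y * (y * y) = 1) : y * y = 1 := by
  haveI : Fact (Nat.Prime 2) := ⟨Nat.prime_two⟩
  obtain ⟨P, Q, -, hPQ⟩ := hx.two_fours h60
  have hP : IsPGroup 2 (zpowers y) := by
    have h : orderOf y ∣ 2 ^ 2 := orderOf_dvd_of_pow_eq_one (by
      calc y ^ 2 ^ 2 = y * y * (y * y) := by simp [pow_succ, mul_assoc]
        _ = 1 := h4)
    obtain ⟨k, -, hk⟩ := (Nat.dvd_prime_pow Nat.prime_two).1 h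
    exact IsPGroup.of_card (n := k) (by rw [Nat.card_zpowers, hk])
  obtain ⟨R, hR⟩ := hP.exists_le_sylow
  obtain ⟨g, hg⟩ := MulAction.exists_smul_eq L P R
  have hy : y ∈ ((g • P : Sylow 2 L) : Subgroup L) := by rw [hg]; exact hR (mem_zpowers y)
  rw [Sylow.coe_subgroup_smul] at hy
  obtain ⟨w, hw, e⟩ := hy
  rw [← e]
  show g * w * g⁻¹ * (g * w * g⁻¹) = 1
  rw [show g * w * g⁻¹ * (g * w * g⁻¹) = g * (w * w) * g⁻¹ by group, hx.sixty_sq h60 ((hPQ P).2 (Or.inl rfl)) hw,
    mul_one, mul_inv_cancel]

/-- An involution which `x` and an inverting involution normalize in this way lies in the core. -/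
theorem mem_core (hx : Self x) {w t : L} (hw : w * w = 1) (hxw : x * w * x * w * x * w = 1)
    (ht : t * t = 1) (htx : t * x * t = x⁻¹) (htw : t * w = w * t) (hnc : ∀ g : L, g * w * g⁻¹ ≠ t)
    (K : Subgroup L) [K.Normal] (h3 : ¬ 3 ∣ Nat.card K)
    (hK : (K.index = 3 ∨ K.index = 6) ∨ ShapeA K ∨ (K = ⊥ ∧ IsSimpleGroup L ∧ Nat.card L = 168)) : w ∈ K := by
  have hq := hx.quotient K h3
  let π := QuotientGroup.mk' K
  rw [← QuotientGroup.eq_one_iff]
  show π w = 1
  have hw' : π w * π w = 1 := by rw [← map_mul, hw, map_one]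
  rcases hK with hidx | S | ⟨-, hs, h168⟩
  · have hY : Nat.card (zpowers (π x)) = 3 := by rw [Nat.card_zpowers]; exact hq.order
    have hmem : π w ∈ zpowers (π x) := by
      have hprod : π x * π w * (π x * π w) * (π x * π w) = 1 := by
        simp only [← map_mul]
        rw [show x * w * (x * w) * (x * w) = x * w * x * w * x * w by group, hxw, map_one]
      rcases hidx with h | h
      · have htop : zpowers (π x) = ⊤ := eq_top_of_card_eq _ (by rw [hY, ← index_eq_card, h])
        rw [htop]; trivial
      · have hi : (zpowers (π x)).index = 2 := by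
          have := card_mul_index (zpowers (π x))
          rw [hY, ← index_eq_card K, h] at this
          omega
        by_contra hne
        have h1 : π x * π w * (π x * π w) ∈ zpowers (π x) :=
          (mul_mem_iff_of_index_two hi).2 Iff.rfl
        have h2 : π x * π w ∈ zpowers (π x) := by
          have := mul_mem (inv_mem h1) (hprod ▸ one_mem (zpowers (π x)) : π x * π w * (π x * π w) * (π x * π w) ∈ zpowers (π x))
          rwa [inv_mul_cancel_left] at this
        exact hne (by simpa using mul_mem (inv_mem (mem_zpowers (π x))) h2)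
    rcases hq.mem_zpowers_iff.1 hmem with e | e | e
    · exact e
    · exfalso
      have h1 : π x * π x = 1 := by
        show QuotientGroup.mk' K x * QuotientGroup.mk' K x = 1
        rw [← e]; exact hw'
      exact hq.ne_one (inv_eq_one.1 (hq.mul_self.symm.trans h1))
    · exfalso
      rw [e] at hw'
      have h1 : π x * π x = 1 := by
        rw [← inv_inj, _root_.mul_inv_rev, hw', inv_one]
      exact hq.ne_one (inv_eq_one.1 (hq.mul_self.symm.trans h1))
  · haveI := S.simple
    have h60 := S.card_quotient hx
    set y := t * (x * w * x⁻¹)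
    have hyy : y * y = w := by
      have e1 : w * x⁻¹ * w = x * w * x := by
        have hwi : w⁻¹ = w := inv_eq_of_mul_eq_one_right hw
        calc w * x⁻¹ * w = x * w * x * w * x * w * (w⁻¹ * x⁻¹ * w⁻¹) := by rw [hxw, one_mul, hwi]
          _ = x * w * x := by group
      have hxx : x * x = x⁻¹ := hx.mul_self
      have htx' : t * x⁻¹ * t = x := by
        have := congrArg (·⁻¹) htx
        simp only [_root_.mul_inv_rev, inv_inv, inv_eq_of_mul_eq_one_right ht] at this
        rw [← mul_assoc] at this
        exact this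
      calc y * y = (t * x * t) * (t * w * t) * (t * x⁻¹ * t) * (x * w * x⁻¹) := by
            simp only [y, mul_assoc]
            rw [← mul_assoc t t (w * _), ht, one_mul, ← mul_assoc t t (x⁻¹ * _), ht, one_mul]
        _ = x⁻¹ * (w * (x * x) * w) * x⁻¹ := by
            rw [htx, htx', htw, mul_assoc w t t, ht, mul_one]; simp only [mul_assoc]
        _ = x⁻¹ * (x * w * x) * x⁻¹ := by rw [hxx, e1]
        _ = w := by group
    have := sq_eq_one_of_sixty (S.self_quotient hx) h60 (y := π y) (by rw [← map_mul, hyy, hw'])
    rwa [← map_mul, hyy] at this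
  · by_contra hne
    haveI := hs
    have hw1 : w ≠ 1 := fun e => hne (by rw [e, map_one])
    have ht1 : t ≠ 1 := fun e => by
      rw [e, one_mul, mul_one] at htx
      exact hx.ne_one (inv_eq_one.1 (hx.mul_self.symm.trans (by nth_rewrite 2 [htx]; exact mul_inv_cancel x)))
    have ho : ∀ {u : L}, u * u = 1 → u ≠ 1 → orderOf u = 2 := fun h h1 =>
      orderOf_eq_prime (hp := ⟨Nat.prime_two⟩) (by rw [pow_two, h]) h1
    obtain ⟨g, hg⟩ := isConj_iff.1 (SmallSimple.Order168.conj_two h168 (ho hw hw1) (ho ht ht1))
    exact hnc g hg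

end Cfsg.Agent.AmalgamM12
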