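import Cfsg.Agent.Lib.AmalgamM12.Shape

/-!
# The cube of the twisted element

In the centralizer of `p`, modulo `p`, the product of the two elements of order four is in the nilpotent core,
so its product with `a` has order three.
-/

set_option autoImplicit false
set_option linter.style.haveILetI false

namespace Cfsg.Agent.AmalgamM12

open Subgroup Cfsg.Agent.SelfThree

variable {G : Type*} [Group G] {a b p q r s : G}

theorem Rels.p_inv (R : Rels a b p q r s) : p⁻¹ = p := inv_eq_of_mul_eq_one_right R.pp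

theorem Rels.q_inv (R : Rels a b p q r s) : q⁻¹ = q := inv_eq_of_mul_eq_one_right R.qq

theorem Rels.pa_comm (R : Rels a b p q r s) : p * a = a * p := by
  calc p * a = (p * a * p * a⁻¹) * (a * p⁻¹) := by group
    _ = a * p := by rw [R.pa, one_mul, R.p_inv]

theorem Rels.pq_comm (R : Rels a b p q r s) : p * q = q * p := by
  calc p * q = (p * q * p * q) * (q⁻¹ * p⁻¹) := by group
    _ = q * p := by rw [R.pq, one_mul, R.q_inv, R.p_inv]

theorem Rels.rp_comm (R : Rels a b p q r s) : p * r = r * p := by rw [← R.rr, mul_assoc]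

theorem Rels.qs_comm (R : Rels a b p q r s) : q * s = s * q := by rw [← R.ss, mul_assoc]

theorem Rels.qr (R : Rels a b p q r s) : r * q * r⁻¹ = p * q ∧ r * (p * q) * r⁻¹ = q := by
  refine ⟨R.rq, ?_⟩
  calc r * (p * q) * r⁻¹ = (r * p * r⁻¹) * (r * q * r⁻¹) := by group
    _ = q := by rw [← R.rp_comm, mul_inv_cancel_right, R.rq, ← mul_assoc, R.pp, one_mul]

theorem Rels.s_inv_p (R : Rels a b p q r s) : s⁻¹ * p * s = p * q := by
  have h : s * (p * q) * s⁻¹ = p := by
    calc s * (p * q) * s⁻¹ = (s * p * s⁻¹) * (s * q * s⁻¹) := by group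
      _ = p := by
        rw [R.sp, ← R.qs_comm, mul_inv_cancel_right, mul_assoc q p q, R.pq_comm, ← mul_assoc, R.qq, one_mul]
  calc s⁻¹ * p * s = s⁻¹ * (s * (p * q) * s⁻¹) * s := by rw [h]
    _ = p * q := by group

/-- The second element of order four. -/
def alt (r s : G) : G := s * r * s * r⁻¹ * s⁻¹

theorem Rels.alt_sq (R : Rels a b p q r s) : alt r s * alt r s = p := by
  calc alt r s * alt r s = s * (r * (s * s) * r⁻¹) * s⁻¹ := by rw [alt]; group
    _ = (s * p * s⁻¹) * (s * q * s⁻¹) := by rw [R.ss, R.rq]; group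
    _ = p := by
      rw [R.sp, ← R.qs_comm, mul_inv_cancel_right, mul_assoc q p q, R.pq_comm, ← mul_assoc, R.qq, one_mul]

theorem Rels.alt_p (R : Rels a b p q r s) : p * alt r s = alt r s * p := by
  rw [← R.alt_sq, mul_assoc]

theorem Rels.alt_q (R : Rels a b p q r s) : q * alt r s * q⁻¹ = (alt r s)⁻¹ := by
  have e2 : r⁻¹ * q * r = p * q := by
    calc r⁻¹ * q * r = r⁻¹ * (r * (p * q) * r⁻¹) * r := by rw [R.qr.2]
      _ = p * q := by group
  have e1 : q * r = r * (p * q) := by rw [← e2]; group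
  calc q * alt r s * q⁻¹ = s * (q * r) * s * r⁻¹ * (s⁻¹ * q⁻¹) := by
        rw [alt]; simp only [← mul_assoc, R.qs_comm]
    _ = s * r * (p * q * s) * r⁻¹ * (s⁻¹ * q⁻¹) := by rw [e1]; simp only [mul_assoc]
    _ = s * r * ((p * q * s) * (r⁻¹ * q⁻¹ * r) * r⁻¹) * s⁻¹ := by
        rw [R.q_inv, show s⁻¹ * q = q * s⁻¹ from
          (Commute.inv_right (show Commute q s from R.qs_comm)).eq.symm]
        group
    _ = s * r * ((p * q * s) * (p * q) * r⁻¹) * s⁻¹ := by rw [R.q_inv, e2]
    _ = (alt r s)⁻¹ := by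
        have e3 : (p * q * s) * (p * q) = s⁻¹ := by
          have h4 : s * (p * q) = p * s := by rw [← R.s_inv_p]; group
          calc (p * q * s) * (p * q) = p * q * (s * (p * q)) := by group
            _ = p * q * p * s := by rw [h4]; group
            _ = q * s := by rw [R.pq_comm, mul_assoc q p p, R.pp, mul_one]
            _ = s⁻¹ := eq_inv_of_mul_eq_one_left (by rw [mul_assoc, R.ss, R.qq])
        rw [e3, alt]; group

theorem Rels.cube_cases [Finite G] (R : Rels a b p q r s) (hp : p ≠ 1) (ha : a ≠ 1)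
    (hC : ∀ g : G, g * a = a * g → g * p = p * g → ∃ i j : ℕ, g = a ^ i * p ^ j) :
    tw a r s ^ 3 = 1 ∨ tw a r s ^ 3 = p := by
  classical
  let C := centralizer ({p} : Set G)
  have hmem : ∀ {g : G}, p * g = g * p → g ∈ C := fun h => mem_centralizer_singleton_iff.2 h.symm
  have hqr : q * r * q = r⁻¹ := by
    calc q * r * q = q * (r * q * r⁻¹) * r := by group
      _ = p * r := by rw [R.rq, ← mul_assoc, ← R.pq_comm, mul_assoc p q q, R.qq, mul_one]
      _ = r⁻¹ := eq_inv_of_mul_eq_one_left (by rw [mul_assoc, R.rr, R.pp])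
  let P : C := ⟨p, hmem rfl⟩
  let N : Subgroup C := zpowers P
  have hcen : ∀ g : C, g * P = P * g := fun g => Subtype.ext (mem_centralizer_singleton_iff.1 g.2)
  haveI : N.Normal := ⟨fun n hn g => by
    obtain ⟨k, rfl⟩ := hn
    refine ⟨k, ?_⟩
    simp only
    rw [(Commute.zpow_right (show Commute g P from hcen g) k).eq, mul_inv_cancel_right]⟩
  have hPP : P * P = 1 := Subtype.ext R.pp
  have hN : ∀ {g : C}, g ∈ N → g = 1 ∨ g = P := by
    rintro _ ⟨k, rfl⟩
    rcases Int.even_or_odd k with ⟨j, rfl⟩ | ⟨j, rfl⟩ <;> dsimp only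
    · left; rw [zpow_add, ← (Commute.refl P).mul_zpow, hPP, one_zpow]
    · right; rw [zpow_add, zpow_one, zpow_mul, zpow_two, hPP, one_zpow, one_mul]
  let π := QuotientGroup.mk' N
  have hπ : ∀ {g : C}, π g = 1 ↔ g ∈ N := QuotientGroup.eq_one_iff _
  have hπ1 : ∀ {g : C}, (g : G) = 1 ∨ (g : G) = p → π g = 1 := fun h => hπ.2 (by
    rcases h with h | h
    · rw [show (_ : C) = 1 from Subtype.ext h]; exact one_mem _
    · rw [show (_ : C) = P from Subtype.ext h]; exact mem_zpowers P)
  let X : C := ⟨a, hmem R.pa_comm⟩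
  let U : C := ⟨r, hmem R.rp_comm⟩
  let V : C := ⟨alt r s, hmem R.alt_p⟩
  let T : C := ⟨q, hmem R.pq_comm⟩
  have hx : Self (π X) := by
    have h3 : X ^ 3 = 1 := Subtype.ext (by simpa [pow_succ, X] using R.a3)
    refine ⟨orderOf_eq_prime (hp := ⟨Nat.prime_three⟩) (by rw [← map_pow, h3, map_one]) fun h => ?_, fun g hg => ?_⟩
    · rcases hN (hπ.1 h) with e | e
      · exact ha (congrArg Subtype.val e)
      · have e' : a = p := congrArg Subtype.val e
        have := R.a3
        rw [e', R.pp, one_mul] at this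
        exact hp this
    obtain ⟨g, rfl⟩ := QuotientGroup.mk'_surjective N g
    have hk : g * X * g⁻¹ * X⁻¹ ∈ N := hπ.1 (by
      simp only [map_mul, map_inv]
      rw [← (show π X * π g = π g * π X from hg)]; group)
    rcases hN hk with e | e
    · rw [mul_inv_eq_one, mul_inv_eq_iff_eq_mul] at e
      obtain ⟨i, j, hij⟩ := hC g (congrArg Subtype.val e) (mem_centralizer_singleton_iff.1 g.2)
      refine ⟨(i : ℤ), ?_⟩
      have e' : g = X ^ i * P ^ j := Subtype.ext (by simpa using hij)
      simp only [zpow_natCast]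
      rw [e', map_mul, map_pow, map_pow, hπ.2 (mem_zpowers P), one_pow, mul_one]
    · exfalso
      have e1 : g * X * g⁻¹ = P * X := by rw [← e]; group
      have e2 : (P * X) ^ 3 = 1 := by rw [← e1, conj_pow, h3, mul_one, mul_inv_cancel]
      rw [(show Commute P X from (hcen X).symm).mul_pow, h3, mul_one, pow_succ, pow_two, hPP, one_mul] at e2
      exact hp (congrArg Subtype.val e2)
  have h2 : ∀ {w : C}, (w : G) * w = p → π w * π w = 1 := fun h => by
    rw [← map_mul]; exact hπ1 (Or.inr h)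
  have hT2 : π T * π T = 1 := by rw [← map_mul]; exact hπ1 (Or.inl R.qq)
  have hTX : π T * π X * π T = (π X)⁻¹ := by
    apply eq_inv_of_mul_eq_one_left
    simp only [← map_mul]
    exact hπ1 (Or.inl (by simpa [T, X, mul_assoc] using R.qa))
  have hTw : ∀ {w : C}, (w : G) * w = p → q * (w : G) * q = (w : G)⁻¹ → π T * π w = π w * π T := by
    intro w hw hq
    have e : π T * π w * π T = (π w)⁻¹ := by
      rw [← map_mul, ← map_mul, ← map_inv]
      exact congrArg π (Subtype.ext (by simpa [T] using hq))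
    rw [inv_eq_of_mul_eq_one_right (h2 hw)] at e
    calc π T * π w = π T * π w * (π T * π T) := by rw [hT2, mul_one]
      _ = π T * π w * π T * π T := by group
      _ = π w * π T := by rw [e]
  have hnc : ∀ {w : C}, (w : G) * w = p → ∀ g, g * π w * g⁻¹ ≠ π T := by
    intro w hw g hg
    obtain ⟨g, rfl⟩ := QuotientGroup.mk'_surjective N g
    have hk : g * w * g⁻¹ * T⁻¹ ∈ N := hπ.1 (by simp only [map_mul, map_inv]; rw [hg, mul_inv_cancel])
    have hsq : (g * w * g⁻¹) * (g * w * g⁻¹) = P := by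
      rw [show (g * w * g⁻¹) * (g * w * g⁻¹) = g * (w * w) * g⁻¹ by group,
        show w * w = P from Subtype.ext hw, hcen g, mul_inv_cancel_right]
    rcases hN hk with e | e
    · rw [mul_inv_eq_one] at e
      rw [e] at hsq
      exact hp ((congrArg Subtype.val hsq).symm.trans R.qq)
    · rw [mul_inv_eq_iff_eq_mul] at e
      rw [e] at hsq
      refine hp ((congrArg Subtype.val hsq).symm.trans ?_)
      show p * q * (p * q) = 1
      rw [← mul_assoc]; exact R.pq
  have hrA : a * r * a * r * a * r = 1 := R.ar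
  have hrB : a * alt r s * a * alt r s * a * alt r s = 1 := by
    have hsa : s * (a * b * a⁻¹ * b⁻¹) * s⁻¹ = a := by
      have e : a * b * a⁻¹ * b⁻¹ = (s * a * s⁻¹)⁻¹ := by rw [R.sa]; group
      calc s * (a * b * a⁻¹ * b⁻¹) * s⁻¹ = (s * s) * a⁻¹ * (s * s)⁻¹ := by rw [e]; group
        _ = a := by
          rw [R.ss, R.q_inv, show q * a⁻¹ * q = (q⁻¹ * a * q⁻¹)⁻¹ by group, R.q_inv]
          exact inv_eq_of_mul_eq_one_right R.qa
    have e : a * alt r s = (s * r) * (b * s) * (s * r)⁻¹ := by
      nth_rewrite 1 [← hsa]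
      rw [← R.rb, alt]; group
    calc a * alt r s * a * alt r s * a * alt r s
        = (a * alt r s) * (a * alt r s) * (a * alt r s) := by group
      _ = (s * r) * (b * s * b * s * b * s) * (s * r)⁻¹ := by rw [e]; group
      _ = 1 := by rw [R.bs, mul_one, mul_inv_cancel]
  obtain ⟨K, hKn, h3, hK⟩ := shape_of_self _ hx rfl
  have hU : π U ∈ K := mem_core hx (h2 R.rr) (by
      simp only [← map_mul]; exact hπ1 (Or.inl (by simpa [X, U] using hrA)))
    hT2 hTX (hTw R.rr (by simpa [U] using hqr)) (hnc R.rr) K h3 hK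
  have hV : π V ∈ K := mem_core hx (h2 R.alt_sq) (by
      simp only [← map_mul]; exact hπ1 (Or.inl (by simpa [X, V] using hrB)))
    hT2 hTX (hTw R.alt_sq (by simpa [V, R.q_inv] using R.alt_q)) (hnc R.alt_sq) K h3 hK
  have hfin := (hx.order_coset (by rw [SelfThree.Inv, normalizer_eq_top]; exact mem_top _) h3 (mul_mem hU hV)).pow_three
  rw [← map_mul, ← map_mul, ← map_pow] at hfin
  rcases hN (hπ.1 hfin) with e | e
  · exact Or.inl (by simpa [tw, alt, U, V, X] using congrArg Subtype.val e)
  · exact Or.inr (by simpa [tw, alt, U, V, X, P] using congrArg Subtype.val e)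

end Cfsg.Agent.AmalgamM12
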